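import Cfsg.Agent.Lib.PSL2.Dickson
import Cfsg.Agent.Lib.InvChar.SmallSolvable
import Cfsg.Agent.Lib.Laws.Embed
import Cfsg.Agent.Lib.SpecLin.SLTwoClassSize

/-!
Two-generator solvable subgroups of `PSL₂(q)`.
-/

set_option autoImplicit false

open Matrix

namespace CfsgLib.PSLTwoSolv

section generic

variable {G : Type*} [Group G]

/-- the solvable-pair predicate -/
def SolvPair (x y : G) : Prop := Group.IsSolvable ↥(Subgroup.closure ({x, y} : Set G))

theorem SolvPair.of_le {H : Subgroup G} (hH : Group.IsSolvable ↥H) {x y : G} (hx : x ∈ H) (hy : y ∈ H) :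
    SolvPair x y :=
  haveI := hH
  Group.isSolvable_of_isSolvable_injective (Subgroup.inclusion_injective
    ((Subgroup.closure_le H).2 (by rintro z (rfl | rfl) <;> assumption)))

theorem SolvPair.mono {x y a b : G} (h : SolvPair a b) (hx : x ∈ Subgroup.closure ({a, b} : Set G))
    (hy : y ∈ Subgroup.closure ({a, b} : Set G)) : SolvPair x y := SolvPair.of_le h hx hy

/-- A commutative subgroup `A ∋ x` normalised by `y` gives a solvable pair. -/
theorem solvPair_of_normalized {A : Subgroup G} (hA : IsMulCommutative ↥A) {x y : G} (hx : x ∈ A)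
    (hy : y ∈ Subgroup.normalizer (A : Set G)) : SolvPair x y := by
  set N := Subgroup.normalizer (A : Set G) with hN
  haveI : (A.subgroupOf N).Normal := Subgroup.normal_in_normalizer
  haveI : Group.IsSolvable ↥(A.subgroupOf N) := Group.isSolvable_of_comm fun a b => by
    have h := hA.is_comm.comm (⟨((a : ↥N) : G), a.2⟩ : ↥A) ⟨((b : ↥N) : G), b.2⟩
    exact Subtype.ext (Subtype.ext (show ((a : ↥N) : G) * ((b : ↥N) : G) = ((b : ↥N) : G) * ((a : ↥N) : G) from
      congrArg Subtype.val h))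
  let π := QuotientGroup.mk' (A.subgroupOf N)
  let Z : Subgroup ↥N := (Subgroup.zpowers (π ⟨y, hy⟩)).comap π
  haveI hZ : Group.IsSolvable ↥Z := by
    haveI : Group.IsSolvable ↥(Subgroup.zpowers (π ⟨y, hy⟩)) :=
      Group.isSolvable_of_comm fun a b => IsCyclic.commGroup.mul_comm a b
    let f : ↥Z →* ↥(Subgroup.zpowers (π ⟨y, hy⟩)) := π.subgroupComap _
    refine Group.isSolvable_of_ker_le_range (Subgroup.inclusion (H := A.subgroupOf N) (K := Z) ?_) f ?_
    · intro a ha
      show π a ∈ Subgroup.zpowers _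
      rw [show π a = 1 from (QuotientGroup.eq_one_iff a).2 ha]
      exact one_mem _
    · intro a ha
      exact ⟨⟨a.1, (QuotientGroup.eq_one_iff (a : ↥N)).1 (congrArg Subtype.val ha)⟩, rfl⟩
  refine SolvPair.of_le (Group.isSolvable_of_surjective (f := (Z.equivMapOfInjective N.subtype N.subtype_injective).toMonoidHom)
    (Z.equivMapOfInjective N.subtype N.subtype_injective).surjective) ?_ ?_
  · refine ⟨⟨x, Subgroup.le_normalizer hx⟩, ?_, rfl⟩
    show π _ ∈ Subgroup.zpowers _
    rw [show π ⟨x, Subgroup.le_normalizer hx⟩ = 1 from (QuotientGroup.eq_one_iff _).2 hx]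
    exact one_mem _
  · exact ⟨⟨y, hy⟩, Subgroup.mem_zpowers _, rfl⟩

theorem solvPair_of_conj [Finite G] {x y : G} (h : y * x * y⁻¹ = x ∨ y * x * y⁻¹ = x⁻¹) : SolvPair x y := by
  refine solvPair_of_normalized (A := Subgroup.zpowers x) inferInstance (Subgroup.mem_zpowers x) ?_
  refine Subgroup.mem_normalizer_fintype fun n hn => ?_
  obtain ⟨k, rfl⟩ := Subgroup.mem_zpowers_iff.1 hn
  show y * x ^ k * y⁻¹ ∈ Subgroup.zpowers x
  rw [← conj_zpow]
  exact Subgroup.zpow_mem _ (by rcases h with h | h <;> rw [h] <;> simp) _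

theorem solvPair_of_two [Finite G] {x y : G} (hx : x * x = 1) (hy : y * y = 1) : SolvPair x y := by
  refine SolvPair.mono (a := x * y) (b := x) (solvPair_of_conj (Or.inr ?_))
    (Subgroup.subset_closure (Or.inr rfl)) ?_
  · rw [_root_.mul_inv_rev, inv_eq_of_mul_eq_one_right hx, inv_eq_of_mul_eq_one_right hy, ← mul_assoc, hx, one_mul]
  · have h : x⁻¹ * (x * y) ∈ Subgroup.closure ({x * y, x} : Set G) :=
      mul_mem (inv_mem (Subgroup.subset_closure (Or.inr rfl))) (Subgroup.subset_closure (Or.inl rfl))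
    rwa [inv_mul_cancel_left] at h

theorem solvPair_of_two' [Finite G] {x y : G} (hx : x * x = 1) (hy : x * y * (x * y) = 1) : SolvPair x y := by
  refine SolvPair.mono (solvPair_of_two hx hy) (Subgroup.subset_closure (Or.inl rfl)) ?_
  have h : x⁻¹ * (x * y) ∈ Subgroup.closure ({x, x * y} : Set G) :=
    mul_mem (inv_mem (Subgroup.subset_closure (Or.inl rfl))) (Subgroup.subset_closure (Or.inr rfl))
  rwa [inv_mul_cancel_left] at h

/-- The relations of `A₄`. -/
theorem solvPair_tetrahedral [Finite G] {x y : G} (hx : x * x = 1) (hy : y * y * y = 1)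
    (hxy : x * y * (x * y) * (x * y) = 1) : SolvPair x y := by
  set b := y * x * y⁻¹ with hb
  set c := y * b * y⁻¹ with hc
  have hbb : b * b = 1 := by
    rw [hb]; calc y * x * y⁻¹ * (y * x * y⁻¹) = y * (x * x) * y⁻¹ := by group
      _ = 1 := by rw [hx]; group
  have hcc : c * c = 1 := by
    rw [hc]; calc y * b * y⁻¹ * (y * b * y⁻¹) = y * (b * b) * y⁻¹ := by group
      _ = 1 := by rw [hbb]; group
  have habc : x * b * c = 1 := by
    calc x * b * c = x * y * (x * y) * (x * y) * (y * y * y)⁻¹ := by rw [hc, hb]; group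
      _ = 1 := by rw [hxy, hy]; simp
  have hxb : x * b = c := (mul_eq_one_iff_eq_inv.1 habc).trans (inv_eq_of_mul_eq_one_right hcc)
  have hcomm : Commute x b := by
    have h1 : (x * b)⁻¹ = x * b := by rw [hxb]; exact inv_eq_of_mul_eq_one_right hcc
    rw [_root_.mul_inv_rev, inv_eq_of_mul_eq_one_right hx, inv_eq_of_mul_eq_one_right hbb] at h1
    exact h1.symm
  have hA : IsMulCommutative ↥(Subgroup.closure ({x, b} : Set G)) := by
    refine Subgroup.isMulCommutative_closure ?_
    rintro a (rfl | rfl) b' (rfl | rfl)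
    exacts [rfl, hcomm.eq, hcomm.eq.symm, rfl]
  refine solvPair_of_normalized hA (Subgroup.subset_closure (Or.inl rfl)) ?_
  refine Subgroup.mem_normalizer_fintype fun n hn => ?_
  show y * n * y⁻¹ ∈ Subgroup.closure ({x, b} : Set G)
  have : (Subgroup.closure ({x, b} : Set G)).map (MulAut.conj y).toMonoidHom ≤ Subgroup.closure ({x, b} : Set G) := by
    rw [MonoidHom.map_closure, Subgroup.closure_le]
    rintro _ ⟨a, rfl | rfl, rfl⟩
    · exact Subgroup.subset_closure (Or.inr rfl)
    · show c ∈ Subgroup.closure ({x, b} : Set G)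
      rw [← hxb]
      exact mul_mem (Subgroup.subset_closure (Or.inl rfl)) (Subgroup.subset_closure (Or.inr rfl))
  exact this ⟨n, hn, rfl⟩

theorem solvPair_conj_iff (g x y : G) : SolvPair (g * x * g⁻¹) (g * y * g⁻¹) ↔ SolvPair x y := by
  have key : ∀ g x y : G, SolvPair x y → SolvPair (g * x * g⁻¹) (g * y * g⁻¹) := by
    intro g x y h
    haveI : Group.IsSolvable ↥(Subgroup.closure ({x, y} : Set G)) := h
    refine SolvPair.of_le (H := (Subgroup.closure ({x, y} : Set G)).map (MulAut.conj g).toMonoidHom)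
      (Group.isSolvable_of_surjective (f := ((Subgroup.closure ({x, y} : Set G)).equivMapOfInjective
        (MulAut.conj g).toMonoidHom (MulAut.conj g).injective).toMonoidHom) (MulEquiv.surjective _))
      ⟨x, Subgroup.subset_closure (Or.inl rfl), rfl⟩ ⟨y, Subgroup.subset_closure (Or.inr rfl), rfl⟩
  refine ⟨fun h => ?_, key g x y⟩
  have := key g⁻¹ _ _ h
  simpa [mul_assoc] using this

theorem dihedral_cases {k : ℕ} (a b : DihedralGroup k) :
    (b * a * b⁻¹ = a ∨ b * a * b⁻¹ = a⁻¹) ∨ (a * a = 1 ∧ (b * b = 1 ∨ a * b * (a * b) = 1)) := by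
  rcases a with i | i <;> rcases b with j | j
  · exact Or.inl (Or.inl (by simp))
  · exact Or.inl (Or.inr (by simp [sub_eq_add_neg, add_comm]))
  · exact Or.inr ⟨by simp, Or.inr (by simp)⟩
  · exact Or.inr ⟨by simp, Or.inl (by simp)⟩

theorem small_orders {H : Type*} [Group H] {α : Type*} [Finite α] (hα : Nat.card α ≤ 4)
    (f : H →* Equiv.Perm α) (hf : Function.Injective f) (h : H) : h ^ 4 = 1 ∨ h ^ 3 = 1 := by
  have := Fintype.ofFinite α
  rw [Nat.card_eq_fintype_card, ← Fintype.card_fin 4] at hα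
  obtain ⟨e⟩ := Function.Embedding.nonempty_of_card_le hα
  have hφ := (Equiv.Perm.viaEmbeddingHom_injective e).comp hf
  have key : ∀ σ : Equiv.Perm (Fin 4), σ ^ 4 = 1 ∨ σ ^ 3 = 1 := by decide +kernel
  rcases key (Equiv.Perm.viaEmbeddingHom e (f h)) with h' | h'
  · exact Or.inl (hφ (show (Equiv.Perm.viaEmbeddingHom e) (f (h ^ 4)) = _ by simp [map_pow, h']))
  · exact Or.inr (hφ (show (Equiv.Perm.viaEmbeddingHom e) (f (h ^ 3)) = _ by simp [map_pow, h']))

end generic

variable {F : Type*} [Field F] [Fintype F] [DecidableEq F]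

local notation "PSL" => ProjectiveSpecialLinearGroup (Fin 2) F

theorem not_solvable_psl (h4 : 4 ≤ Fintype.card F) : ¬ Group.IsSolvable PSL := by
  intro h
  haveI : Nontrivial PSL := by
    refine nontrivial_of_ne (QuotientGroup.mk (⟨!![1, 1; 0, 1], by simp [det_fin_two]⟩ :
      SpecialLinearGroup (Fin 2) F)) 1 fun e => ?_
    rcases CfsgLib.SpecLin.SLTwo.mem_center_iff'.1 ((QuotientGroup.eq_one_iff _).1 e) with h' | h' <;>
      simpa using congrFun (congrFun h' 0) 1
  haveI hp : Group.IsPerfect (SpecialLinearGroup (Fin 2) F) := ⟨CfsgLib.Laws.sl_two_perfect h4⟩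
  haveI hp2 : Group.IsPerfect PSL := inferInstance
  exact (Group.IsSolvable.commutator_lt_top_of_nontrivial PSL).ne hp2.commutator_eq_top

/-- Solvable pairs in `PSL₂(ℓ^r)`, `ℓ ≤ 3`, `r` prime. -/
theorem solvPair_cases {ℓ r : ℕ} [Fact ℓ.Prime] [CharP F ℓ] (hℓ : ℓ ≤ 3) (hr : r.Prime)
    (hq : Fintype.card F = ℓ ^ r) {x y : PSL} (h : SolvPair x y) :
    (∃ z : OnePoint F, CfsgLib.PSL2.pglPerm F (ProjectiveSpecialLinearGroup.toPGL x) z = z ∧
        CfsgLib.PSL2.pglPerm F (ProjectiveSpecialLinearGroup.toPGL y) z = z) ∨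
      (y * x * y⁻¹ = x ∨ y * x * y⁻¹ = x⁻¹) ∨ (x * x = 1 ∧ (y * y = 1 ∨ x * y * (x * y) = 1)) ∨
      ((x ^ 4 = 1 ∨ x ^ 3 = 1) ∧ ∀ g ∈ Subgroup.closure ({x, y} : Set PSL), g ^ 4 = 1 ∨ g ^ 3 = 1) := by
  set H := Subgroup.closure ({x, y} : Set PSL) with hH
  have hx : x ∈ H := Subgroup.subset_closure (Or.inl rfl)
  have hy : y ∈ H := Subgroup.subset_closure (Or.inr rfl)
  haveI : Group.IsSolvable ↥H := h
  have small : ∀ {α : Type} [Finite α], Nat.card α ≤ 4 → ∀ f : ↥H →* Equiv.Perm α, Function.Injective f →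
      (x ^ 4 = 1 ∨ x ^ 3 = 1) ∧ ∀ g ∈ H, g ^ 4 = 1 ∨ g ^ 3 = 1 := by
    intro α _ hα f hf
    have key : ∀ g ∈ H, g ^ 4 = 1 ∨ g ^ 3 = 1 := fun g hg => by
      rcases small_orders hα f hf ⟨g, hg⟩ with h' | h'
      · exact Or.inl (congrArg Subtype.val h')
      · exact Or.inr (congrArg Subtype.val h')
    exact ⟨key x hx, key⟩
  rcases CfsgLib.PSL2.dickson_psl ℓ H with ⟨z, hz⟩ | ⟨k, -, ⟨hc, -⟩ | ⟨⟨e⟩⟩⟩ | ⟨⟨e⟩⟩ | ⟨⟨e⟩⟩ | ⟨⟨e⟩⟩ | ⟨S, -, hS⟩
  · exact Or.inl ⟨z, hz x hx, hz y hy⟩
  · refine Or.inr (Or.inl (Or.inl ?_))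
    rw [mul_inv_eq_iff_eq_mul]
    exact congrArg Subtype.val ((IsCyclic.commGroup (α := ↥H)).mul_comm ⟨y, hy⟩ ⟨x, hx⟩)
  · rcases dihedral_cases (e ⟨x, hx⟩) (e ⟨y, hy⟩) with (h' | h') | ⟨h1, h2⟩
    · refine Or.inr (Or.inl (Or.inl ?_))
      rw [← map_inv, ← map_mul, ← map_mul] at h'
      exact congrArg Subtype.val (e.injective h')
    · refine Or.inr (Or.inl (Or.inr ?_))
      rw [← map_inv, ← map_inv, ← map_mul, ← map_mul] at h'
      exact congrArg Subtype.val (e.injective h')
    · refine Or.inr (Or.inr (Or.inl ⟨?_, ?_⟩))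
      · rw [← map_mul, ← map_one e] at h1
        exact congrArg Subtype.val (e.injective h1)
      · rcases h2 with h2 | h2
        · rw [← map_mul, ← map_one e] at h2
          exact Or.inl (congrArg Subtype.val (e.injective h2))
        · rw [← map_mul, ← map_mul, ← map_one e] at h2
          exact Or.inr (congrArg Subtype.val (e.injective h2))
  · refine Or.inr (Or.inr (Or.inr (small (α := Fin 4) (by simp)
      ((alternatingGroup (Fin 4)).subtype.comp e.toMonoidHom) ((Subgroup.subtype_injective _).comp e.injective))))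
  · exact Or.inr (Or.inr (Or.inr (small (α := Fin 4) (by simp) e.toMonoidHom e.injective)))
  · exfalso
    haveI := Group.isSolvable_of_surjective (f := e.toMonoidHom) e.surjective
    refine Equiv.Perm.not_isSolvable_fin_5 (Group.isSolvable_of_ker_le_range
      (alternatingGroup (Fin 5)).subtype (Equiv.Perm.sign (α := Fin 5)) ?_)
    intro σ hσ
    exact ⟨⟨σ, hσ⟩, rfl⟩
  · classical
    haveI : Fintype S := Fintype.ofFinite _
    obtain ⟨i, hi0, hi⟩ : ∃ i, 0 < i ∧ Fintype.card S = ℓ ^ i := by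
      haveI : CharP S ℓ := CharP.subring F ℓ S.toSubring
      obtain ⟨n, -, hn⟩ := FiniteField.card S ℓ
      exact ⟨n, n.2, hn⟩
    have hdeg := Module.card_eq_pow_finrank (K := S) (V := F)
    rw [hq, hi, ← pow_mul] at hdeg
    have hdvd : i ∣ r := ⟨_, Nat.pow_right_injective (Fact.out : ℓ.Prime).two_le hdeg⟩
    have hPSL : ∀ (_ : i = r), False := by
      intro hir
      have htop : Fintype.card S = Fintype.card F := by rw [hi, hir, hq]
      have h4 : 4 ≤ Fintype.card S := by
        rw [htop, hq]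
        calc 4 = 2 ^ 2 := rfl
          _ ≤ ℓ ^ 2 := Nat.pow_le_pow_left (Fact.out : ℓ.Prime).two_le 2
          _ ≤ _ := Nat.pow_le_pow_right (Fact.out : ℓ.Prime).pos hr.two_le
      rcases hS with ⟨⟨e⟩⟩ | ⟨⟨e⟩⟩
      · exact not_solvable_psl h4 (Group.isSolvable_of_surjective (f := e.toMonoidHom) e.surjective)
      · haveI := Group.isSolvable_of_surjective (f := e.toMonoidHom) e.surjective
        exact not_solvable_psl h4
          (Group.isSolvable_of_isSolvable_injective ProjectiveSpecialLinearGroup.toPGL_injective)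
    rcases hr.eq_one_or_self_of_dvd i hdvd with h1 | h1
    · have hc : Nat.card (OnePoint S) ≤ 4 := by
        rw [show Nat.card (OnePoint S) = Nat.card (Option S) from rfl, Finite.card_option,
          Nat.card_eq_fintype_card, hi, h1, pow_one]
        omega
      refine Or.inr (Or.inr (Or.inr ?_))
      obtain ⟨f, hf⟩ : ∃ f : ↥H →* Equiv.Perm (OnePoint S), Function.Injective f := by
        rcases hS with ⟨⟨e⟩⟩ | ⟨⟨e⟩⟩
        · exact ⟨((CfsgLib.PSL2.pglPerm S).comp ProjectiveSpecialLinearGroup.toPGL).comp e.toMonoidHom,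
            (CfsgLib.PSL2.pglPerm_injective.comp ProjectiveSpecialLinearGroup.toPGL_injective).comp e.injective⟩
        · exact ⟨(CfsgLib.PSL2.pglPerm S).comp e.toMonoidHom, CfsgLib.PSL2.pglPerm_injective.comp e.injective⟩
      haveI : Finite (OnePoint S) := inferInstanceAs (Finite (Option S))
      obtain ⟨emb⟩ : Nonempty (OnePoint S ↪ Fin 4) := by
        haveI := Fintype.ofFinite (OnePoint S)
        exact Function.Embedding.nonempty_of_card_le (by rwa [Fintype.card_fin, ← Nat.card_eq_fintype_card])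
      exact small (α := Fin 4) (by simp) ((Equiv.Perm.viaEmbeddingHom emb).comp f)
        ((Equiv.Perm.viaEmbeddingHom_injective emb).comp hf)
    · exact (hPSL h1).elim

end CfsgLib.PSLTwoSolv
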