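import Cfsg.Agent.Lib.PSLTwoSolv.Criterion

/-!
Counting solvable pairs in `SL₂(q)`.
-/

set_option autoImplicit false

open Matrix

namespace CfsgLib.PSLTwoSolv

variable {F : Type*} [Field F] [Fintype F] [DecidableEq F]

local notation "SL2" => Matrix.SpecialLinearGroup (Fin 2) F
local notation "M2" => Matrix (Fin 2) (Fin 2) F
local notation "PSL" => Matrix.ProjectiveSpecialLinearGroup (Fin 2) F

/-- The solvabilizer count. -/
noncomputable def solvCount {G : Type*} [Group G] (x : G) : ℕ := Nat.card {y : G // SolvPair x y}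

theorem solvCount_conj {G : Type*} [Group G] (g x : G) : solvCount (g * x * g⁻¹) = solvCount x :=
  (Nat.card_congr ((MulAut.conj g).toEquiv.subtypeEquiv fun y => (solvPair_conj_iff g x y).symm)).symm

theorem solvCount_inv {G : Type*} [Group G] (x : G) : solvCount x⁻¹ = solvCount x := by
  refine Nat.card_congr (Equiv.subtypeEquivRight fun y => ?_)
  have key : ∀ a : G, SolvPair a y → SolvPair a⁻¹ y := fun a h =>
    h.mono (inv_mem (Subgroup.subset_closure (Set.mem_insert _ _)))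
      (Subgroup.subset_closure (Set.mem_insert_of_mem _ (Set.mem_singleton _)))
  exact ⟨fun h => by simpa using key _ h, key x⟩

theorem card_center_mul_solvCount (S : SL2) :
    Nat.card ↥(Subgroup.center SL2) * solvCount (QuotientGroup.mk S : PSL) = {Y : SL2 | Sol S Y}.ncard := by
  rw [solvCount, ← Nat.card_prod, ← Nat.card_coe_set_eq]
  exact (Nat.card_congr (QuotientGroup.preimageMkEquivSubgroupProdSet (Subgroup.center SL2)
    {y : PSL | SolvPair (QuotientGroup.mk S : PSL) y})).symm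

theorem card_center_two [CharP F 2] : Nat.card ↥(Subgroup.center SL2) = 1 := by
  rw [Nat.card_eq_one_iff_unique]
  refine ⟨⟨fun a b => ?_⟩, ⟨1⟩⟩
  have key : ∀ a : ↥(Subgroup.center SL2), ((a : SL2) : M2) = 1 := fun a => by
    rcases CfsgLib.SpecLin.SLTwo.mem_center_iff'.1 a.2 with h | h
    · exact h
    · ext i j
      rw [h, Matrix.neg_apply, CharTwo.neg_eq]
  exact Subtype.ext (Subtype.ext ((key a).trans (key b).symm))

theorem card_center_odd (h2 : (2 : F) ≠ 0) : Nat.card ↥(Subgroup.center SL2) = 2 := by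
  have hm : (⟨-1, by rw [det_neg]; simp⟩ : SL2) ∈ Subgroup.center SL2 :=
    CfsgLib.SpecLin.SLTwo.mem_center_iff'.2 (Or.inr rfl)
  rw [show Nat.card ↥(Subgroup.center SL2) = (Subgroup.center SL2 : Set SL2).ncard from rfl,
    Set.ncard_eq_two]
  refine ⟨1, ⟨-1, by rw [det_neg]; simp⟩, fun e => h2 ?_, ?_⟩
  · have := congrFun (congrFun (congrArg Subtype.val e) 0) 0
    simp at this
    linear_combination this
  · ext a
    constructor
    · intro ha
      rcases CfsgLib.SpecLin.SLTwo.mem_center_iff'.1 ha with h | h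
      · exact Or.inl (Subtype.ext h)
      · exact Or.inr (Subtype.ext h)
    · rintro (rfl | rfl)
      exacts [one_mem _, hm]

theorem ncard_upper : {Y : SL2 | (Y : M2) 1 0 = 0}.ncard = (Fintype.card F - 1) * Fintype.card F := by
  rw [← Nat.card_coe_set_eq, ← Fintype.card_units (α := F), ← Nat.card_eq_fintype_card,
    ← Nat.card_eq_fintype_card, ← Nat.card_prod]
  exact Nat.card_congr
    { toFun := fun Y => (Units.mkOfMulEqOne _ _ (upper_diag Y.2), ((Y : SL2) : M2) 0 1)
      invFun := fun p => ⟨⟨!![(p.1 : F), p.2; 0, ((p.1⁻¹ : Fˣ) : F)], by simp [det_fin_two]⟩,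
        show ((⟨!![(p.1 : F), p.2; 0, ((p.1⁻¹ : Fˣ) : F)], _⟩ : SL2) : M2) 1 0 = 0 by simp⟩
      left_inv := fun Y => by
        refine Subtype.ext (Subtype.ext ?_)
        have h : ((Y : SL2) : M2) 1 0 = 0 := Y.2
        ext i j
        fin_cases i <;> fin_cases j <;> simp [h]
        exact inv_eq_of_mul_eq_one_right (upper_diag Y.2)
      right_inv := fun p => Prod.ext (Units.ext (by simp)) (by simp) }

theorem ncard_ct (P : F → F → Prop) (hP : ∀ c t, P c t → c ≠ 0) :
    {Y : SL2 | P ((Y : M2) 1 0) (Y : M2).trace}.ncard =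
      {p : F × F | P p.1 p.2}.ncard * Fintype.card F := by
  rw [← Nat.card_coe_set_eq, ← Nat.card_coe_set_eq, ← Nat.card_eq_fintype_card, ← Nat.card_prod]
  exact Nat.card_congr
    { toFun := fun Y => (⟨(((Y : SL2) : M2) 1 0, ((Y : SL2) : M2).trace), Y.2⟩, ((Y : SL2) : M2) 0 0)
      invFun := fun p => ⟨⟨!![p.2, (p.2 * (p.1.1.2 - p.2) - 1) / p.1.1.1; p.1.1.1, p.1.1.2 - p.2], by
          have := hP _ _ p.1.2
          simp [det_fin_two]
          field_simp
          ring⟩, by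
          show P _ _
          simp [trace_fin_two]
          exact p.1.2⟩
      left_inv := fun Y => by
        refine Subtype.ext (Subtype.ext ?_)
        have h : ((Y : SL2) : M2) 1 0 ≠ 0 := hP _ _ Y.2
        have hd := det_two (Y : SL2)
        ext i j
        fin_cases i <;> fin_cases j <;> simp [trace_fin_two]
        field_simp
        linear_combination hd
      right_inv := fun p => by
        refine Prod.ext (Subtype.ext (Prod.ext ?_ ?_)) ?_ <;> simp [trace_fin_two] }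

theorem count_involution_two [CharP F 2] :
    {Y : SL2 | (Y : M2) 1 0 = 0 ∨ (Y : M2).trace = 0 ∨ (Y : M2).trace + (Y : M2) 1 0 = 0}.ncard =
      3 * Fintype.card F * (Fintype.card F - 1) := by
  have hset : {Y : SL2 | (Y : M2) 1 0 = 0 ∨ (Y : M2).trace = 0 ∨ (Y : M2).trace + (Y : M2) 1 0 = 0} =
      {Y : SL2 | (Y : M2) 1 0 = 0} ∪
      {Y : SL2 | (Y : M2) 1 0 ≠ 0 ∧ ((Y : M2).trace = 0 ∨ (Y : M2).trace = (Y : M2) 1 0)} := by
    ext Y
    simp only [Set.mem_union, Set.mem_ofPred_eq, CharTwo.add_eq_zero]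
    tauto
  have hp : {p : F × F | p.1 ≠ 0 ∧ (p.2 = 0 ∨ p.2 = p.1)}.ncard = 2 * (Fintype.card F - 1) := by
    rw [← Nat.card_coe_set_eq, ← Fintype.card_units (α := F), ← Nat.card_eq_fintype_card,
      show (2 : ℕ) = Nat.card Bool by simp, ← Nat.card_prod]
    refine (Nat.card_eq_of_bijective (fun p : Bool × Fˣ =>
      (⟨((p.2 : F), cond p.1 (p.2 : F) 0), p.2.ne_zero, by cases p.1 <;> simp⟩ :
        ↥{p : F × F | p.1 ≠ 0 ∧ (p.2 = 0 ∨ p.2 = p.1)})) ⟨?_, ?_⟩).symm
    · rintro ⟨i, u⟩ ⟨j, v⟩ h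
      obtain ⟨h1, h2⟩ := Prod.ext_iff.1 (congrArg Subtype.val h)
      obtain rfl : u = v := Units.ext h1
      cases i <;> cases j
      exacts [rfl, absurd h2.symm u.ne_zero, absurd h2 u.ne_zero, rfl]
    · rintro ⟨⟨c, t⟩, hc, ht⟩
      rcases ht with ht | ht
      · exact ⟨(false, Units.mk0 c hc), Subtype.ext (Prod.ext rfl (by simpa using ht.symm))⟩
      · exact ⟨(true, Units.mk0 c hc), Subtype.ext (Prod.ext rfl (by simpa using ht.symm))⟩
  rw [hset, Set.ncard_union_eq (Set.disjoint_left.2 fun Y h h' => h'.1 h), ncard_upper,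
    ncard_ct (fun c t => c ≠ 0 ∧ (t = 0 ∨ t = c)) (fun c t h => h.1), hp]
  ring

theorem count_unipotent_three [CharP F 3] :
    {Y : SL2 | (Y : M2) 1 0 = 0 ∨ (((Y : M2) 1 0 = 1 ∨ (Y : M2) 1 0 = -1) ∧
      ((Y : M2).trace = 0 ∨ (Y : M2).trace = 1 ∨ (Y : M2).trace = -1))}.ncard =
      Fintype.card F * (Fintype.card F + 5) := by
  have h3 : (3 : F) = 0 := CharP.cast_eq_zero F 3
  have hne : (1 : F) ≠ -1 := fun e => one_ne_zero (show (1 : F) = 0 by linear_combination h3 - e)
  have hP : ∀ c t : F, ((c = 1 ∨ c = -1) ∧ (t = 0 ∨ t = 1 ∨ t = -1)) → c ≠ 0 := by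
    rintro c t ⟨h | h, -⟩ <;> simp [h]
  have hp : {p : F × F | (p.1 = 1 ∨ p.1 = -1) ∧ (p.2 = 0 ∨ p.2 = 1 ∨ p.2 = -1)}.ncard = 6 := by
    rw [show {p : F × F | (p.1 = 1 ∨ p.1 = -1) ∧ (p.2 = 0 ∨ p.2 = 1 ∨ p.2 = -1)} =
      ({1, -1} : Set F) ×ˢ ({0, 1, -1} : Set F) by ext p; simp, Set.ncard_prod, Set.ncard_pair hne,
      Set.ncard_insert_of_notMem (by simp [eq_comm]) (Set.toFinite _), Set.ncard_pair hne]
  have hd : Disjoint {Y : SL2 | (Y : M2) 1 0 = 0} {Y : SL2 | ((Y : M2) 1 0 = 1 ∨ (Y : M2) 1 0 = -1) ∧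
      ((Y : M2).trace = 0 ∨ (Y : M2).trace = 1 ∨ (Y : M2).trace = -1)} :=
    Set.disjoint_left.2 fun Y h h' => hP _ _ h' h
  rw [Set.ofPred_or]
  refine (Set.ncard_union_eq hd).trans ?_
  rw [ncard_upper,
    ncard_ct (fun c t => (c = 1 ∨ c = -1) ∧ (t = 0 ∨ t = 1 ∨ t = -1)) hP, hp]
  obtain ⟨k, hk⟩ := Nat.exists_eq_add_of_le (show 1 ≤ Fintype.card F from Fintype.card_pos)
  rw [hk, Nat.add_sub_cancel_left]; ring

theorem count_diag :
    {Y : SL2 | (Y : M2) 0 1 = 0 ∨ (Y : M2) 1 0 = 0 ∨ ((Y : M2) 0 0 = 0 ∧ (Y : M2) 1 1 = 0)}.ncard =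
      2 * Fintype.card F * (Fintype.card F - 1) := by
  set L : Set SL2 := {Y | (Y : M2) 0 1 = 0}
  set U : Set SL2 := {Y | (Y : M2) 1 0 = 0 ∧ (Y : M2) 0 1 ≠ 0}
  set M : Set SL2 := {Y | (Y : M2) 0 0 = 0 ∧ (Y : M2) 1 1 = 0}
  have hset : {Y : SL2 | (Y : M2) 0 1 = 0 ∨ (Y : M2) 1 0 = 0 ∨ ((Y : M2) 0 0 = 0 ∧ (Y : M2) 1 1 = 0)} =
      L ∪ U ∪ M := by
    ext Y; simp only [L, U, M, Set.mem_union, Set.mem_ofPred_eq]; tauto
  have hdisj : Disjoint (L ∪ U) M := by
    rw [Set.disjoint_left]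
    rintro Y h ⟨ha, hd'⟩
    have hd := det_two Y
    rw [ha, hd'] at hd
    rcases h with h | h
    · rw [show (Y : M2) 0 1 = 0 from h] at hd; simp at hd
    · rw [h.1] at hd; simp at hd
  have hL : L.ncard = (Fintype.card F - 1) * Fintype.card F := by
    rw [← ncard_upper (F := F), ← Nat.card_coe_set_eq, ← Nat.card_coe_set_eq]
    refine Nat.card_congr ((MulAut.conj (jMatS : SL2)).toEquiv.subtypeEquiv fun Y => ?_)
    show (Y : M2) 0 1 = 0 ↔ ((jMatS * Y * jMatS⁻¹ : SL2) : M2) 1 0 = 0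
    simp [coe_inv_two, coe_jMatS, Matrix.mul_apply, Matrix.vecMul, dotProduct, Fin.sum_univ_two]
  have hU : U.ncard = (Fintype.card F - 1) * (Fintype.card F - 1) := by
    rw [← Nat.card_coe_set_eq, ← Fintype.card_units (α := F), ← Nat.card_eq_fintype_card, ← Nat.card_prod]
    exact Nat.card_congr
      { toFun := fun Y => (Units.mkOfMulEqOne _ _ (upper_diag Y.2.1), Units.mk0 _ Y.2.2)
        invFun := fun p => ⟨⟨!![(p.1 : F), (p.2 : F); 0, ((p.1⁻¹ : Fˣ) : F)], by simp [det_fin_two]⟩,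
          by constructor <;> simp⟩
        left_inv := fun Y => by
          refine Subtype.ext (Subtype.ext ?_)
          have h : ((Y : SL2) : M2) 1 0 = 0 := Y.2.1
          ext i j
          fin_cases i <;> fin_cases j <;> simp [h]
          exact inv_eq_of_mul_eq_one_right (upper_diag Y.2.1)
        right_inv := fun p => Prod.ext (Units.ext (by simp)) (Units.ext (by simp)) }
  have hM : M.ncard = Fintype.card F - 1 := by
    rw [← Nat.card_coe_set_eq, ← Fintype.card_units (α := F), ← Nat.card_eq_fintype_card]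
    have hbc : ∀ Y : ↥M, ((Y : SL2) : M2) 0 1 * (-((Y : SL2) : M2) 1 0) = 1 := fun Y => by
      have hd := det_two (Y : SL2)
      rw [Y.2.1, Y.2.2] at hd
      linear_combination hd
    exact Nat.card_congr
      { toFun := fun Y => Units.mkOfMulEqOne _ _ (hbc Y)
        invFun := fun u => ⟨⟨!![0, (u : F); -((u⁻¹ : Fˣ) : F), 0], by simp [det_fin_two]⟩,
          by constructor <;> simp⟩
        left_inv := fun Y => by
          refine Subtype.ext (Subtype.ext ?_)
          have ha := Y.2.1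
          have hd := Y.2.2
          ext i j
          fin_cases i <;> fin_cases j <;> simp [ha, hd]
          rw [inv_eq_of_mul_eq_one_right (hbc Y), neg_neg]
        right_inv := fun u => Units.ext (by simp) }
  rw [hset, Set.ncard_union_eq hdisj,
    Set.ncard_union_eq (Set.disjoint_left.2 fun Y h h' => h'.2 h), hL, hU, hM]
  obtain ⟨k, hk⟩ := Nat.exists_eq_add_of_le (show 1 ≤ Fintype.card F from Fintype.card_pos)
  rw [hk, Nat.add_sub_cancel_left]; ring

theorem trace_sq_ne_four {S : SL2} (hroot : ∀ l : F, l * l - (S : M2).trace * l + 1 ≠ 0)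
    (ht : (S : M2).trace ≠ 0) : (S : M2).trace ^ 2 ≠ 4 := by
  intro h4
  rcases eq_or_ne (2 : F) 0 with h2 | h2
  · exact ht (pow_eq_zero_iff two_ne_zero |>.1 (h4.trans (by linear_combination (2 : F) * h2)))
  · refine hroot ((S : M2).trace / 2) ?_
    field_simp
    linear_combination -h4

theorem count_nonsplit {S : SL2} (hroot : ∀ l : F, l * l - (S : M2).trace * l + 1 ≠ 0)
    (ht : (S : M2).trace ≠ 0) :
    {Y : SL2 | Y * S = S * Y ∨ Y * S = S⁻¹ * Y}.ncard = 2 * (Fintype.card F + 1) := by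
  have h4 := trace_sq_ne_four hroot ht
  have hns : ∀ s : F, (S : M2) ≠ s • 1 := fun s e => h4 (CfsgLib.SpecLin.SLTwo.exists_trace_sq_iff e S.2)
  have hss : ((2 : F) = 0 ∧ (S : M2).trace ≠ 0 ∨ (2 : F) ≠ 0 ∧ (S : M2).trace ^ 2 ≠ 4) := by
    rcases eq_or_ne (2 : F) 0 with h | h
    exacts [Or.inl ⟨h, ht⟩, Or.inr ⟨h, h4⟩]
  have hC : Nat.card ↥(Subgroup.centralizer ({S} : Set SL2)) = Fintype.card F + 1 := by
    rcases CfsgLib.SpecLin.SLTwo.ncard_class_semisimple hss with ⟨h2, -⟩ | ⟨-, hn⟩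
    · exfalso
      obtain ⟨l, hl⟩ := Finset.card_pos.1 (show 0 < (CfsgLib.SpecLin.SLTwo.roots (S : M2).trace).card by omega)
      simp only [CfsgLib.SpecLin.SLTwo.roots, Finset.mem_filter, Finset.mem_univ, true_and] at hl
      exact hroot l (by linear_combination -hl)
    · have h := Subgroup.index_mul_card (Subgroup.centralizer ({S} : Set SL2))
      rw [CfsgLib.SpecLin.SLTwo.index_centralizer_eq_ncard, hn, CfsgLib.SpecLin.SLTwo.card_sl_two,
        show Fintype.card F ^ 2 - 1 = (Fintype.card F - 1) * (Fintype.card F + 1) from by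
          rw [sq, mul_comm (Fintype.card F - 1)]; exact (Nat.mul_self_sub_mul_self_eq _ 1),
        ← mul_assoc] at h
      exact Nat.eq_of_mul_eq_mul_left (Nat.mul_pos Fintype.card_pos (by
        have := Fintype.one_lt_card (α := F); omega)) h
  obtain ⟨w, hw⟩ := isConj_iff.1 (CfsgLib.SpecLin.SLTwo.isConj_of_trace_eq (M := S) (N := S⁻¹) (Or.inr h4)
    hns (fun s e => hns s (by
      have hmem := inv_mem (CfsgLib.SpecLin.SLTwo.mem_center_of_scalar e)
      rw [inv_inv] at hmem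
      have hc : ∀ V : SL2, V * S = S * V := Subgroup.mem_center_iff.1 hmem
      rcases CfsgLib.SpecLin.SLTwo.mem_center_iff'.1 hmem with h | h
      · exact absurd h (by simpa using hns 1)
      · exact absurd h (by simpa using hns (-1))))
    (by rw [coe_inv_two]; simp [trace_fin_two, add_comm]))
  rw [mul_inv_eq_iff_eq_mul] at hw
  set A : Set SL2 := {Y | Y * S = S * Y}
  set B : Set SL2 := {Y | Y * S = S⁻¹ * Y}
  have hA : A.ncard = Fintype.card F + 1 := by
    rw [← hC, show A = (Subgroup.centralizer ({S} : Set SL2) : Set SL2) from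
      Set.ext fun Y => Subgroup.mem_centralizer_singleton_iff.symm]
    rfl
  have hB : B.ncard = Fintype.card F + 1 := by
    rw [← hA, ← Nat.card_coe_set_eq, ← Nat.card_coe_set_eq]
    refine (Nat.card_congr ((Equiv.mulLeft w).subtypeEquiv fun Y => ?_)).symm
    show Y * S = S * Y ↔ w * Y * S = S⁻¹ * (w * Y)
    rw [← mul_assoc S⁻¹ w, ← hw, mul_assoc, mul_assoc w S, mul_right_inj]
  have hd : Disjoint A B := by
    refine Set.disjoint_left.2 fun Y h h' => ?_
    have e : S * S = 1 := by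
      have h1 : S = S⁻¹ := mul_right_cancel (h.symm.trans h')
      nth_rw 2 [h1]; exact mul_inv_cancel S
    have e2 : (S : M2).trace • (S : M2) = (2 : F) • 1 := by
      have e' := congrArg Subtype.val e
      rw [Matrix.SpecialLinearGroup.coe_mul, CfsgLib.SpecLin.SLTwo.sq_eq _ S.2, sub_eq_iff_eq_add] at e'
      rw [e', two_smul]
      rfl
    rcases scalar_or e2 with h0 | h0
    exacts [ht h0, h4 h0]
  rw [Set.ofPred_or, Set.ncard_union_eq hd, hA, hB]
  ring

/-- `SL₂` as the quadric `t² + u² = v² + w² + 1` in characteristic three. -/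
noncomputable def quadEquiv [CharP F 3] :
    SL2 ≃ {p : (F × F) × (F × F) // p.1.1 * p.1.1 + p.1.2 * p.1.2 = p.2.1 * p.2.1 + p.2.2 * p.2.2 + 1} :=
  haveI h3 : (3 : F) = 0 := CharP.cast_eq_zero F 3
  { toFun := fun Y => ⟨(((Y : M2) 0 0 + (Y : M2) 1 1, (Y : M2) 0 1 - (Y : M2) 1 0),
      ((Y : M2) 0 0 - (Y : M2) 1 1, (Y : M2) 0 1 + (Y : M2) 1 0)), by
        simp only; linear_combination (4 : F) * det_two Y + h3⟩
    invFun := fun p => ⟨!![-(p.1.1.1 + p.1.2.1), -(p.1.2.2 + p.1.1.2); -(p.1.2.2 - p.1.1.2), -(p.1.1.1 - p.1.2.1)], by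
        simp [det_fin_two]; linear_combination p.2⟩
    left_inv := fun Y => by
      refine Subtype.ext ?_
      ext i j
      fin_cases i <;> fin_cases j <;> simp
      · linear_combination -(Y : M2) 0 0 * h3
      · linear_combination -(Y : M2) 0 1 * h3
      · linear_combination -(Y : M2) 1 0 * h3
      · linear_combination -(Y : M2) 1 1 * h3
    right_inv := fun p => by
      refine Subtype.ext (Prod.ext (Prod.ext ?_ ?_) (Prod.ext ?_ ?_)) <;> simp
      · linear_combination -p.1.1.1 * h3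
      · linear_combination -p.1.1.2 * h3
      · linear_combination -p.1.2.1 * h3
      · linear_combination -p.1.2.2 * h3 }

omit [DecidableEq F] [Fintype F] in
theorem quadEquiv_val [CharP F 3] (Y : SL2) :
    (quadEquiv (F := F) Y).1 = (((Y : M2) 0 0 + (Y : M2) 1 1, (Y : M2) 0 1 - (Y : M2) 1 0),
        ((Y : M2) 0 0 - (Y : M2) 1 1, (Y : M2) 0 1 + (Y : M2) 1 0)) := rfl

omit [DecidableEq F] [Fintype F] in
theorem quadEquiv_symm_val [CharP F 3]
    (p : {p : (F × F) × (F × F) // p.1.1 * p.1.1 + p.1.2 * p.1.2 = p.2.1 * p.2.1 + p.2.2 * p.2.2 + 1}) :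
    (((quadEquiv (F := F)).symm p : SL2) : M2) =
      !![-(p.1.1.1 + p.1.2.1), -(p.1.2.2 + p.1.1.2); -(p.1.2.2 - p.1.1.2), -(p.1.1.1 - p.1.2.1)] := rfl

section circle

variable [CharP F 3] (hns : ∀ z : F, z * z ≠ -1)
include hns

omit [DecidableEq F] in
theorem card_circle_one : {p : F × F | p.1 * p.1 + p.2 * p.2 = 1}.ncard = Fintype.card F + 1 := by
  have h3 : (3 : F) = 0 := CharP.cast_eq_zero F 3
  have h2 : (2 : F) ≠ 0 := fun e => one_ne_zero (show (1 : F) = 0 by linear_combination h3 - e)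
  have hden : ∀ s : F, 1 + s * s ≠ 0 := fun s e => hns s (by linear_combination e)
  rw [← Nat.card_coe_set_eq, ← Nat.card_eq_fintype_card, ← Finite.card_option]
  refine (Nat.card_eq_of_bijective (fun o : Option F => (match o with
    | none => ⟨(-1, 0), by simp⟩
    | some s => ⟨((1 - s * s) / (1 + s * s), 2 * s / (1 + s * s)), by
        show _ / _ * (_ / _) + _ / _ * (_ / _) = (1 : F)
        have := hden s
        rw [div_mul_div_comm, div_mul_div_comm, ← add_div, div_eq_one_iff_eq (mul_ne_zero this this)]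
        ring⟩ : ↥{p : F × F | p.1 * p.1 + p.2 * p.2 = 1})) ⟨?_, ?_⟩).symm
  · rintro (_ | s) (_ | t) h <;> simp only [Subtype.mk.injEq, Prod.mk.injEq] at h
    · rfl
    · exfalso
      have := h.1
      have := hden t
      field_simp at *
      exact h2 (by linear_combination -h.1)
    · exfalso
      have := hden s
      field_simp at *
      exact h2 (by linear_combination h.1)
    · obtain ⟨h1, h2'⟩ := h
      have d1 := hden s
      have d2 := hden t
      rw [div_eq_div_iff d1 d2] at h1 h2'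
      have hsq : s * s = t * t := mul_left_cancel₀ h2 (by linear_combination -h1)
      exact congrArg some (mul_left_cancel₀ h2 (mul_right_cancel₀ d2 (by linear_combination h2' + 2 * t * hsq)))
  · rintro ⟨⟨v, w⟩, h⟩
    have h' : v * v + w * w = 1 := h
    rcases eq_or_ne (1 + v) 0 with hv | hv
    · refine ⟨none, Subtype.ext (Prod.ext (by linear_combination -hv) ?_)⟩
      exact (mul_self_eq_zero.1 (show w * w = 0 by linear_combination h' + (1 - v) * hv)).symm
    · refine ⟨some (w / (1 + v)), Subtype.ext (Prod.ext ?_ ?_)⟩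
      all_goals
        show _ / _ = _
        rw [div_eq_iff (hden _)]
        field_simp
      · linear_combination (-(1 + v)) * h'
      · linear_combination (-w) * h'

omit [DecidableEq F] in
theorem card_circle {k : F} (hk : k ≠ 0) :
    {p : F × F | p.1 * p.1 + p.2 * p.2 = k}.ncard = Fintype.card F + 1 := by
  obtain ⟨a, b, hab⟩ := CfsgLib.SpecLin.SLTwo.exists_form_eq (0 : F) (Or.inr (by
    have h3 : (3 : F) = 0 := CharP.cast_eq_zero F 3
    intro e
    exact one_ne_zero (show (1 : F) = 0 by linear_combination -e - h3))) k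
  rw [← card_circle_one hns, ← Nat.card_coe_set_eq, ← Nat.card_coe_set_eq]
  refine Nat.card_congr
    { toFun := fun p => ⟨((p.1.1 * a + p.1.2 * b) / k, (p.1.2 * a - p.1.1 * b) / k), ?_⟩
      invFun := fun p => ⟨(p.1.1 * a - p.1.2 * b, p.1.1 * b + p.1.2 * a), ?_⟩
      left_inv := fun p => ?_
      right_inv := fun p => ?_ }
  · have h : p.1.1 * p.1.1 + p.1.2 * p.1.2 = k := p.2
    show _ / _ * (_ / _) + _ / _ * (_ / _) = (1 : F)
    field_simp
    linear_combination (a ^ 2 + b ^ 2) * h + k * hab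
  · have h : p.1.1 * p.1.1 + p.1.2 * p.1.2 = 1 := p.2
    show _ = k
    linear_combination (a ^ 2 + b ^ 2) * h + hab
  · refine Subtype.ext (Prod.ext ?_ ?_) <;> (simp only; field_simp)
    · linear_combination p.1.1 * hab
    · linear_combination p.1.2 * hab
  · refine Subtype.ext (Prod.ext ?_ ?_) <;> (simp only; field_simp)
    · linear_combination p.1.1 * hab
    · linear_combination p.1.2 * hab

omit [DecidableEq F] in
theorem card_circle_nonaxis :
    {p : F × F | p.1 * p.1 + p.2 * p.2 = 1 ∧ p.1 ≠ 0 ∧ p.2 ≠ 0}.ncard + 4 = Fintype.card F + 1 := by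
  classical
  have h3 : (3 : F) = 0 := CharP.cast_eq_zero F 3
  have hne : (1 : F) ≠ -1 := fun e => one_ne_zero (show (1 : F) = 0 by linear_combination h3 - e)
  have h4 : ({(0, 1), (0, -1), (1, 0), (-1, 0)} : Set (F × F)).ncard = 4 := by
    rw [Set.ncard_insert_of_notMem (by simp [Prod.ext_iff, hne]) (Set.toFinite _),
      Set.ncard_insert_of_notMem (by simp [Prod.ext_iff, hne]) (Set.toFinite _),
      Set.ncard_pair (by simp [Prod.ext_iff, hne])]
  rw [← card_circle_one hns, ← h4, ← Set.ncard_union_eq ?_]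
  · congr 1
    ext ⟨v, w⟩
    simp only [Set.mem_union, Set.mem_ofPred_eq, Set.mem_insert_iff, Set.mem_singleton_iff, Prod.mk.injEq]
    constructor
    · rintro (⟨h, -, -⟩ | ⟨rfl, rfl⟩ | ⟨rfl, rfl⟩ | ⟨rfl, rfl⟩ | ⟨rfl, rfl⟩) <;> simp_all
    · intro h
      rcases eq_or_ne v 0 with rfl | hv
      · rcases mul_self_eq_one_iff.1 (show w * w = 1 by linear_combination h) with rfl | rfl <;> simp
      rcases eq_or_ne w 0 with rfl | hw
      · rcases mul_self_eq_one_iff.1 (show v * v = 1 by linear_combination h) with rfl | rfl <;> simp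
      exact Or.inl ⟨h, hv, hw⟩
  · rw [Set.disjoint_left]
    rintro ⟨v, w⟩ ⟨-, hv, hw⟩ h
    simp only [Set.mem_insert_iff, Set.mem_singleton_iff, Prod.mk.injEq] at h
    rcases h with ⟨h, -⟩ | ⟨h, -⟩ | ⟨-, h⟩ | ⟨-, h⟩ <;> contradiction

theorem count_involution_three :
    {Y : SL2 | (Y : M2).trace = 0 ∨ (Y : M2) 0 1 - (Y : M2) 1 0 = 0 ∨
      (((Y : M2).trace = 1 ∨ (Y : M2).trace = -1) ∧
        ((Y : M2) 0 1 - (Y : M2) 1 0 = 1 ∨ (Y : M2) 0 1 - (Y : M2) 1 0 = -1)) ∨
      ((Y : M2) 0 0 = (Y : M2) 1 1 ∧ (Y : M2) 0 1 = -(Y : M2) 1 0)}.ncard =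
      2 * Fintype.card F * (Fintype.card F + 1) := by
  have h3 : (3 : F) = 0 := CharP.cast_eq_zero F 3
  have hne : (1 : F) ≠ -1 := fun e => one_ne_zero (show (1 : F) = 0 by linear_combination h3 - e)
  let E := quadEquiv (F := F)
  have hq1 : 1 ≤ Fintype.card F := Fintype.card_pos
  set A : Set SL2 := {Y | (Y : M2).trace = 0}
  set B : Set SL2 := {Y | (Y : M2) 0 1 - (Y : M2) 1 0 = 0}
  set C : Set SL2 := {Y | ((Y : M2).trace = 1 ∨ (Y : M2).trace = -1) ∧
        ((Y : M2) 0 1 - (Y : M2) 1 0 = 1 ∨ (Y : M2) 0 1 - (Y : M2) 1 0 = -1)}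
  set D : Set SL2 := {Y | ((Y : M2) 0 0 = (Y : M2) 1 1 ∧ (Y : M2) 0 1 = -(Y : M2) 1 0) ∧
    (Y : M2).trace ≠ 0 ∧ (Y : M2) 0 1 - (Y : M2) 1 0 ≠ 0}
  have hset : {Y : SL2 | (Y : M2).trace = 0 ∨ (Y : M2) 0 1 - (Y : M2) 1 0 = 0 ∨
      (((Y : M2).trace = 1 ∨ (Y : M2).trace = -1) ∧
        ((Y : M2) 0 1 - (Y : M2) 1 0 = 1 ∨ (Y : M2) 0 1 - (Y : M2) 1 0 = -1)) ∨
      ((Y : M2) 0 0 = (Y : M2) 1 1 ∧ (Y : M2) 0 1 = -(Y : M2) 1 0)} = A ∪ B ∪ C ∪ D := by
    have key : ∀ a b c d : Prop, (a ∨ b ∨ c ∨ d) ↔ (((a ∨ b) ∨ c) ∨ (d ∧ ¬a ∧ ¬b)) := by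
      intros; tauto
    ext Y; exact key _ _ _ _
  have hC0 : ∀ Y ∈ C, (Y : M2).trace ≠ 0 ∧ (Y : M2) 0 1 - (Y : M2) 1 0 ≠ 0 := by
    rintro Y ⟨ht, hu⟩
    constructor
    · rcases ht with h | h <;> simp [h]
    · rcases hu with h | h <;> simp [h]
  have d1 : Disjoint (A ∪ B) C := by
    refine Set.disjoint_left.2 fun Y h h' => ?_
    rcases h with h | h
    exacts [(hC0 Y h').1 h, (hC0 Y h').2 h]
  have d2 : Disjoint (A ∪ B ∪ C) D := by
    refine Set.disjoint_left.2 fun Y h h' => ?_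
    rcases h with (h | h) | h
    · exact h'.2.1 h
    · exact h'.2.2 h
    · obtain ⟨ht, hu⟩ := h
      obtain ⟨⟨hv, hw⟩, -, -⟩ := h'
      have h1 : (Y : M2).trace * (Y : M2).trace = 1 := by rcases ht with e | e <;> rw [e] <;> ring
      have h2 : ((Y : M2) 0 1 - (Y : M2) 1 0) * ((Y : M2) 0 1 - (Y : M2) 1 0) = 1 := by
        rcases hu with e | e <;> rw [e] <;> ring
      rw [trace_fin_two, hv] at h1
      rw [hw] at h2
      have hd := det_two Y
      rw [hv, hw] at hd
      exact one_ne_zero (show (1 : F) = 0 by linear_combination (4 : F) * hd - h1 - h2 + h3)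
  have hA : A.ncard = Fintype.card F * Fintype.card F - Fintype.card F := by
    have h := CfsgLib.SpecLin.SLTwo.ncard_trace (0 : F)
    rw [show (CfsgLib.SpecLin.SLTwo.roots (0 : F)).card = 0 by
      rw [Finset.card_eq_zero, Finset.eq_empty_iff_forall_notMem]
      intro l hl
      simp only [CfsgLib.SpecLin.SLTwo.roots, Finset.mem_filter, Finset.mem_univ, true_and] at hl
      exact hns l (by linear_combination -hl)] at h
    show {M : SL2 | (M : M2).trace = 0}.ncard = _
    omega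
  have hB : B.ncard = A.ncard := by
    rw [← Nat.card_coe_set_eq, ← Nat.card_coe_set_eq]
    refine Nat.card_congr ((Equiv.mulLeft (jMatS : SL2)).subtypeEquiv fun Y => ?_)
    show (Y : M2) 0 1 - (Y : M2) 1 0 = 0 ↔ ((jMatS * Y : SL2) : M2).trace = 0
    rw [trace_mul_two]
    simp [coe_jMatS, sub_eq_add_neg, add_comm]
  have hAB : (A ∩ B).ncard = Fintype.card F + 1 := by
    rw [← card_circle hns (k := (-1 : F)) (neg_ne_zero.2 one_ne_zero), ← Nat.card_coe_set_eq, ← Nat.card_coe_set_eq]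
    refine Nat.card_congr
      { toFun := fun Y => ⟨(E Y).1.2, ?_⟩
        invFun := fun p => ⟨E.symm ⟨((0, 0), p.1), ?_⟩, ?_⟩
        left_inv := fun Y => ?_
        right_inv := fun p => ?_ }
    · have h1 : ((Y : SL2) : M2) 0 0 + ((Y : SL2) : M2) 1 1 = 0 := by rw [← trace_fin_two]; exact Y.2.1
      have h2 : ((Y : SL2) : M2) 0 1 - ((Y : SL2) : M2) 1 0 = 0 := Y.2.2
      have h := (E Y).2
      simp only [E, quadEquiv_val, h1, h2] at h
      show _ = (-1 : F)
      simp only [E, quadEquiv_val]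
      linear_combination -h
    · have h : p.1.1 * p.1.1 + p.1.2 * p.1.2 = -1 := p.2
      linear_combination -h
    · constructor <;> simp [E, A, B, trace_fin_two, quadEquiv_symm_val]
    · refine Subtype.ext (E.symm_apply_eq.2 (Subtype.ext (Prod.ext (Prod.ext ?_ ?_) rfl)))
      · exact (show (0 : F) = ((Y : SL2) : M2) 0 0 + ((Y : SL2) : M2) 1 1 by
          rw [← trace_fin_two]; exact Y.2.1.symm)
      · exact Y.2.2.symm
    · exact Subtype.ext (congrArg (fun z => z.1.2) (E.apply_symm_apply _))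
  have key : ∀ z, (E (E.symm z)).1 = z.1 := fun z => congrArg Subtype.val (E.apply_symm_apply z)
  have hCmem : ∀ z, (z.1.1.1 = 1 ∨ z.1.1.1 = -1) ∧ (z.1.1.2 = 1 ∨ z.1.1.2 = -1) → E.symm z ∈ C := by
    intro z hz
    have et : _ + _ = z.1.1.1 := congrArg (fun z => z.1.1) (key z)
    have eu : _ - _ = z.1.1.2 := congrArg (fun z => z.1.2) (key z)
    refine ⟨?_, ?_⟩
    · rw [trace_fin_two, et]; exact hz.1
    · rw [eu]; exact hz.2
  have hC : C.ncard = 4 * (Fintype.card F + 1) := by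
    have hpm : ({1, -1} : Set F).ncard * ({1, -1} : Set F).ncard = 4 := by rw [Set.ncard_pair hne]
    rw [← hpm, ← card_circle_one hns, ← Set.ncard_prod, ← Set.ncard_prod, ← Nat.card_coe_set_eq,
      ← Nat.card_coe_set_eq]
    refine Nat.card_congr
      { toFun := fun Y => ⟨(E Y).1, ?_⟩
        invFun := fun p => ⟨E.symm ⟨p.1, ?_⟩, ?_⟩
        left_inv := fun Y => Subtype.ext (E.symm_apply_apply _)
        right_inv := fun p => Subtype.ext (key _) }
    · obtain ⟨ht, hu⟩ := Y.2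
      rw [trace_fin_two] at ht
      refine ⟨⟨ht, hu⟩, ?_⟩
      have h := (E Y).2
      have h1 : ((E Y).1.1.1) * ((E Y).1.1.1) = 1 := by
        rcases ht with e | e <;> simp [E, quadEquiv_val, e]
      have h2 : ((E Y).1.1.2) * ((E Y).1.1.2) = 1 := by
        rcases hu with e | e <;> simp [E, quadEquiv_val, e]
      show _ = (1 : F)
      linear_combination -h + h1 + h2
    · obtain ⟨⟨ht, hu⟩, hc⟩ := p.2
      have h1 : p.1.1.1 * p.1.1.1 = 1 := by rcases ht with e | e <;> simp_all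
      have h2 : p.1.1.2 * p.1.1.2 = 1 := by rcases hu with e | e <;> simp_all
      have hc' : p.1.2.1 * p.1.2.1 + p.1.2.2 * p.1.2.2 = 1 := hc
      linear_combination h1 + h2 - hc'
    · obtain ⟨⟨ht, hu⟩, -⟩ := p.2
      exact hCmem _ ⟨ht, hu⟩
  have hD : D.ncard + 4 = Fintype.card F + 1 := by
    rw [← card_circle_nonaxis hns]
    congr 1
    rw [← Nat.card_coe_set_eq, ← Nat.card_coe_set_eq]
    refine Nat.card_congr
      { toFun := fun Y => ⟨(E Y).1.1, ?_⟩
        invFun := fun p => ⟨E.symm ⟨(p.1, (0, 0)), ?_⟩, ?_⟩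
        left_inv := fun Y => ?_
        right_inv := fun p => Subtype.ext (congrArg (fun z => z.1) (key _)) }
    · obtain ⟨⟨hv, hw⟩, ht, hu⟩ := Y.2
      rw [trace_fin_two] at ht
      refine ⟨?_, ht, hu⟩
      have h := (E Y).2
      have z1 : (E Y).1.2.1 = 0 := by simp [E, quadEquiv_val, hv]
      have z2 : (E Y).1.2.2 = 0 := by simp [E, quadEquiv_val, hw]
      rw [z1, z2] at h
      simpa using h
    · simpa using p.2.1
    · obtain ⟨-, ht, hu⟩ := p.2
      have e := key ⟨(p.1, (0, 0)), by simpa using p.2.1⟩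
      refine ⟨⟨sub_eq_zero.1 (congrArg (fun z => z.2.1) e), eq_neg_of_add_eq_zero_left (congrArg (fun z => z.2.2) e)⟩, ?_, ?_⟩
      · rw [trace_fin_two]; intro h0; exact ht ((congrArg (fun z => z.1.1) e).symm.trans h0)
      · intro h0; exact hu ((congrArg (fun z => z.1.2) e).symm.trans h0)
    · obtain ⟨⟨hv, hw⟩, -, -⟩ := Y.2
      refine Subtype.ext (E.symm_apply_eq.2 (Subtype.ext (Prod.ext rfl (Prod.ext ?_ ?_))))
      · show (0 : F) = _ - _
        rw [hv, sub_self]
      · show (0 : F) = _ + _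
        rw [hw, neg_add_cancel]
  have hU := Set.ncard_union_add_ncard_inter A B (Set.toFinite _) (Set.toFinite _)
  rw [hset, Set.ncard_union_eq d2, Set.ncard_union_eq d1]
  rw [hAB, hB, hA] at hU
  obtain ⟨k, hk⟩ := Nat.exists_eq_add_of_le hq1
  have hqq : Fintype.card F * Fintype.card F = Fintype.card F + k * (1 + k) := by rw [hk]; ring
  rw [show 2 * Fintype.card F * (Fintype.card F + 1) = 2 * (Fintype.card F * Fintype.card F) + 2 * Fintype.card F by ring]
  omega

end circle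

end CfsgLib.PSLTwoSolv
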