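import Cfsg.Agent.Lib.PSLTwoSolv.Groups

/-!
Solvable pairs in `PSL₂(q)` in matrix coordinates.
-/

set_option autoImplicit false

open Matrix OnePoint

namespace CfsgLib.PSLTwoSolv

variable {F : Type*} [Field F] [Fintype F] [DecidableEq F]

local notation "SL2" => SpecialLinearGroup (Fin 2) F
local notation "M2" => Matrix (Fin 2) (Fin 2) F
local notation "PSL" => ProjectiveSpecialLinearGroup (Fin 2) F

/-- solvable pairs, at the level of `SL₂` -/
def Sol (S Y : SL2) : Prop := SolvPair (QuotientGroup.mk S : PSL) (QuotientGroup.mk Y)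

/-- `[[1,k],[0,1]]` -/
def uMatS (k : F) : SL2 := ⟨!![1, k; 0, 1], by simp [det_fin_two]⟩

/-- `diag (s, s⁻¹)` -/
def dMatS (s : F) (hs : s ≠ 0) : SL2 := ⟨!![s, 0; 0, s⁻¹], by simp [det_fin_two, hs]⟩

/-- `[[0,-1],[1,0]]` -/
def jMatS : SL2 := ⟨!![0, -1; 1, 0], by simp [det_fin_two]⟩

omit [Fintype F] [DecidableEq F] in
theorem coe_inv_two (S : SL2) :
    ((S⁻¹ : SL2) : M2) = !![(S : M2) 1 1, -(S : M2) 0 1; -(S : M2) 1 0, (S : M2) 0 0] := by
  exact adjugate_fin_two _

omit [Fintype F] [DecidableEq F] in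
theorem coe_uMatS (k : F) : ((uMatS k : SL2) : M2) = !![1, k; 0, 1] := rfl

omit [Fintype F] [DecidableEq F] in
theorem coe_dMatS (s : F) (hs : s ≠ 0) : ((dMatS s hs : SL2) : M2) = !![s, 0; 0, s⁻¹] := rfl

omit [Fintype F] [DecidableEq F] in
theorem coe_jMatS : ((jMatS : SL2) : M2) = !![0, -1; 1, 0] := rfl

omit [Fintype F] [DecidableEq F] in
theorem det_two (S : SL2) : (S : M2) 0 0 * (S : M2) 1 1 - (S : M2) 0 1 * (S : M2) 1 0 = 1 := by
  rw [← det_fin_two]; exact S.2

omit [Fintype F] [DecidableEq F] in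
theorem trace_mul_two (S Y : SL2) : ((S * Y : SL2) : M2).trace = (S : M2) 0 0 * (Y : M2) 0 0 +
    (S : M2) 0 1 * (Y : M2) 1 0 + ((S : M2) 1 0 * (Y : M2) 0 1 + (S : M2) 1 1 * (Y : M2) 1 1) := by
  simp [trace_fin_two, Matrix.mul_apply, Matrix.vecMul, dotProduct, Fin.sum_univ_two]

/-! ### traces and small powers -/

section traces

omit [DecidableEq F]

theorem scalar_or {A : SL2} {a b : F} (h : a • (A : M2) = b • 1) : a = 0 ∨ (A : M2).trace ^ 2 = 4 := by
  rcases eq_or_ne a 0 with ha | ha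
  · exact Or.inl ha
  refine Or.inr (CfsgLib.SpecLin.SLTwo.exists_trace_sq_iff (s := a⁻¹ * b) ?_ A.2)
  rw [← smul_smul, ← h, smul_smul, inv_mul_cancel₀ ha, one_smul]

theorem pow_scalar {A : SL2} {n : ℕ} (h : (QuotientGroup.mk A : PSL) ^ n = 1) :
    ∃ e : F, e * e = 1 ∧ (A : M2) ^ n = e • 1 := by
  rw [← QuotientGroup.mk_pow, QuotientGroup.eq_one_iff, CfsgLib.SpecLin.SLTwo.mem_center_iff'] at h
  rcases h with h | h
  · exact ⟨1, one_mul 1, ((Matrix.SpecialLinearGroup.coe_pow A n).symm.trans h).trans (one_smul F _).symm⟩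
  · exact ⟨-1, by ring, ((Matrix.SpecialLinearGroup.coe_pow A n).symm.trans h).trans (neg_one_smul F _).symm⟩

theorem pow_three_eq (A : SL2) :
    (A : M2) ^ 3 = ((A : M2).trace ^ 2 - 1) • (A : M2) - (A : M2).trace • 1 := by
  have h := CfsgLib.SpecLin.SLTwo.sq_eq (A : M2) A.2
  rw [pow_succ, sq, h, sub_mul, smul_mul_assoc, h, one_mul, smul_sub, smul_smul, sub_smul, ← sq, one_smul]
  abel

theorem trace_of_sq {A : SL2} (h : (QuotientGroup.mk A : PSL) ^ 2 = 1) :
    (A : M2).trace = 0 ∨ (A : M2).trace ^ 2 = 4 := by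
  obtain ⟨e, -, he⟩ := pow_scalar h
  rw [sq, CfsgLib.SpecLin.SLTwo.sq_eq (A : M2) A.2, sub_eq_iff_eq_add] at he
  exact scalar_or (b := e + 1) (by rw [he, add_smul, one_smul])

theorem trace_of_cube {A : SL2} (h : (QuotientGroup.mk A : PSL) ^ 3 = 1) :
    (A : M2).trace ^ 2 = 1 ∨ (A : M2).trace ^ 2 = 4 := by
  obtain ⟨e, -, he⟩ := pow_scalar h
  rw [pow_three_eq, sub_eq_iff_eq_add] at he
  refine (scalar_or (b := e + (A : M2).trace) (by rw [he, add_smul])).imp_left sub_eq_zero.1

theorem trace_of_four {A : SL2} (h : (QuotientGroup.mk A : PSL) ^ 4 = 1) :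
    (A : M2).trace = 0 ∨ (A : M2).trace ^ 2 = 2 ∨ (A : M2).trace ^ 2 = 4 := by
  obtain ⟨e, -, he⟩ := pow_scalar h
  set t := (A : M2).trace
  have h4 : (A : M2) ^ 4 = (t * (t ^ 2 - 2)) • (A : M2) - (t ^ 2 - 1) • 1 := by
    have h := CfsgLib.SpecLin.SLTwo.sq_eq (A : M2) A.2
    rw [pow_succ, pow_three_eq, sub_mul, smul_mul_assoc, h, smul_mul_assoc, one_mul, smul_sub, smul_smul]
    rw [show t * (t ^ 2 - 2) = (t ^ 2 - 1) * t - t by ring, sub_smul ((t ^ 2 - 1) * t) t]
    abel
  rw [h4, sub_eq_iff_eq_add] at he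
  rcases scalar_or (b := e + (t ^ 2 - 1)) (by rw [he, add_smul]) with h0 | h0
  · rcases mul_eq_zero.1 h0 with h0 | h0
    · exact Or.inl h0
    · exact Or.inr (Or.inl (sub_eq_zero.1 h0))
  · exact Or.inr (Or.inr h0)

theorem mk_sq_one {A : SL2} (h : (A : M2).trace = 0) :
    (QuotientGroup.mk A : PSL) * QuotientGroup.mk A = 1 := by
  rw [← sq]; exact CfsgLib.SpecLin.SLTwo.sq_eq_one_of_trace_eq_zero h

theorem mk_cube_one {A : SL2} (h : (A : M2).trace ^ 2 = 1) :
    (QuotientGroup.mk A : PSL) * QuotientGroup.mk A * QuotientGroup.mk A = 1 := by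
  rw [← sq, ← pow_succ, ← QuotientGroup.mk_pow, QuotientGroup.eq_one_iff]
  refine CfsgLib.SpecLin.SLTwo.mem_center_of_scalar (s := -(A : M2).trace) ?_
  refine (Matrix.SpecialLinearGroup.coe_pow A _).trans ?_
  rw [pow_three_eq, h, sub_self, zero_smul, zero_sub, neg_smul]

theorem trace_exc_two [CharP F 2] {A : SL2}
    (h : (QuotientGroup.mk A : PSL) ^ 4 = 1 ∨ (QuotientGroup.mk A : PSL) ^ 3 = 1) :
    (A : M2).trace = 0 ∨ (A : M2).trace = 1 := by
  have h2 := CharTwo.two_eq_zero (R := F)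
  have h4 : (4 : F) = 0 := by linear_combination (2 : F) * h2
  set t := (A : M2).trace
  have key : t ^ 2 = 1 → t = 1 := fun e =>
    sub_eq_zero.1 (mul_self_eq_zero.1 (show (t - 1) * (t - 1) = 0 by linear_combination e + (1 - t) * h2))
  rcases h with h | h
  · rcases trace_of_four h with e | e | e
    · exact Or.inl e
    · exact Or.inl (pow_eq_zero_iff two_ne_zero |>.1 (e.trans h2))
    · exact Or.inl (pow_eq_zero_iff two_ne_zero |>.1 (e.trans h4))
  · rcases trace_of_cube h with e | e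
    · exact Or.inr (key e)
    · exact Or.inl (pow_eq_zero_iff two_ne_zero |>.1 (e.trans h4))

theorem trace_exc_three [CharP F 3] (hns : ∀ z : F, z * z ≠ -1) {A : SL2}
    (h : (QuotientGroup.mk A : PSL) ^ 4 = 1 ∨ (QuotientGroup.mk A : PSL) ^ 3 = 1) :
    (A : M2).trace = 0 ∨ (A : M2).trace = 1 ∨ (A : M2).trace = -1 := by
  have h3 : (3 : F) = 0 := CharP.cast_eq_zero F 3
  set t := (A : M2).trace
  have key : t ^ 2 = 1 → t = 0 ∨ t = 1 ∨ t = -1 := fun e => Or.inr (sq_eq_one_iff.1 e)
  rcases h with h | h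
  · rcases trace_of_four h with e | e | e
    · exact Or.inl e
    · exact absurd (by linear_combination e + h3) (hns t)
    · exact key (by linear_combination e + h3)
  · rcases trace_of_cube h with e | e
    · exact key e
    · exact key (by linear_combination e + h3)

end traces

/-! ### fixed points -/

theorem fix_mk (A : SL2) (z : OnePoint F) :
    CfsgLib.PSL2.pglPerm F (ProjectiveSpecialLinearGroup.toPGL (QuotientGroup.mk A : PSL)) z = z ↔
      SpecialLinearGroup.toGL A • z = z := by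
  rw [ProjectiveSpecialLinearGroup.toPGL_mk, CfsgLib.PSL2.pglPerm_mk]

theorem fix_infty (A : SL2) : SpecialLinearGroup.toGL A • (∞ : OnePoint F) = ∞ ↔ (A : M2) 1 0 = 0 :=
  smul_infty_eq_self_iff

theorem fix_coe (A : SL2) (k : F) : SpecialLinearGroup.toGL A • (k : OnePoint F) = k →
    (A : M2) 1 0 * k * k + ((A : M2) 1 1 - (A : M2) 0 0) * k - (A : M2) 0 1 = 0 := by
  intro h
  rw [smul_some_eq_ite] at h
  split_ifs at h with h0
  · exact absurd h (infty_ne_coe _)
  · rw [coe_eq_coe, div_eq_iff h0] at h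
    change (A : M2) 0 0 * k + (A : M2) 0 1 = k * ((A : M2) 1 0 * k + (A : M2) 1 1) at h
    linear_combination -h

/-- A fixed point gives a root of the characteristic polynomial. -/
theorem root_of_fix {A : SL2} {z : OnePoint F} (h : SpecialLinearGroup.toGL A • z = z) :
    ∃ l : F, l * l - (A : M2).trace * l + 1 = 0 := by
  have hd := det_two A
  cases z with
  | infty =>
    rw [fix_infty] at h
    refine ⟨(A : M2) 0 0, ?_⟩
    rw [trace_fin_two]
    linear_combination -hd - (A : M2) 0 1 * h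
  | coe k =>
    have hk := fix_coe A k h
    refine ⟨(A : M2) 1 0 * k + (A : M2) 1 1, ?_⟩
    rw [trace_fin_two]
    linear_combination (A : M2) 1 0 * hk - hd

/-! ### sufficiency -/

section suff

omit [DecidableEq F]

/-- the upper triangular group -/
def upperSub : Subgroup SL2 where
  carrier := {A | (A : M2) 1 0 = 0}
  one_mem' := by simp
  mul_mem' := by
    intro A B hA hB
    have hA' : (A : M2) 1 0 = 0 := hA
    have hB' : (B : M2) 1 0 = 0 := hB
    show ((A * B : SL2) : M2) 1 0 = 0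
    simp [Matrix.mul_apply, Matrix.vecMul, dotProduct, Fin.sum_univ_two, hA', hB']
  inv_mem' := by
    intro A hA
    have hA' : (A : M2) 1 0 = 0 := hA
    show ((A⁻¹ : SL2) : M2) 1 0 = 0
    rw [coe_inv_two]; simp [hA']

theorem upper_diag {A : SL2} (hA : A ∈ upperSub (F := F)) : (A : M2) 0 0 * (A : M2) 1 1 = 1 := by
  have h := det_two A
  rw [show (A : M2) 1 0 = 0 from hA] at h
  linear_combination h

theorem upperSub_solvable : Group.IsSolvable ↥(upperSub (F := F)) := by
  let f : ↥(upperSub (F := F)) →* Fˣ :=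
    { toFun := fun A => Units.mkOfMulEqOne _ _ (upper_diag A.2)
      map_one' := Units.ext (by simp)
      map_mul' := fun A B => Units.ext (by
        simp [Matrix.mul_apply, Matrix.vecMul, dotProduct, Fin.sum_univ_two, show ((B : SL2) : M2) 1 0 = 0 from B.2]) }
  haveI : Group.IsSolvable ↥f.ker := Group.isSolvable_of_comm fun a b => by
    have one : ∀ a : ↥f.ker, ((a : ↥(upperSub (F := F))) : SL2).1 0 0 = 1 ∧
        ((a : ↥(upperSub (F := F))) : SL2).1 1 1 = 1 := fun a => by
      have h0 : ((a : ↥(upperSub (F := F))) : SL2).1 0 0 = 1 := congrArg Units.val a.2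
      refine ⟨h0, ?_⟩
      have := upper_diag (a : ↥(upperSub (F := F))).2
      rwa [h0, one_mul] at this
    refine Subtype.ext (Subtype.ext (Subtype.ext ?_))
    have za : ((a : ↥(upperSub (F := F))) : SL2).1 1 0 = 0 := (a : ↥(upperSub (F := F))).2
    have zb : ((b : ↥(upperSub (F := F))) : SL2).1 1 0 = 0 := (b : ↥(upperSub (F := F))).2
    show ((a : ↥(upperSub (F := F))) : SL2).1 * ((b : ↥(upperSub (F := F))) : SL2).1 =
      ((b : ↥(upperSub (F := F))) : SL2).1 * ((a : ↥(upperSub (F := F))) : SL2).1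
    ext i j
    fin_cases i <;> fin_cases j <;>
      simp [Matrix.mul_apply, Matrix.vecMul, dotProduct, Fin.sum_univ_two, one a, one b, za, zb, add_comm]
  exact Group.isSolvable_of_ker_le_range f.ker.subtype f (by simp)

theorem sol_upper {S Y : SL2} (hS : (S : M2) 1 0 = 0) (hY : (Y : M2) 1 0 = 0) : Sol S Y := by
  haveI := upperSub_solvable (F := F)
  exact SolvPair.of_le (H := (upperSub (F := F)).map (QuotientGroup.mk' _))
    (Group.isSolvable_of_surjective (MonoidHom.subgroupMap_surjective (QuotientGroup.mk' _) (upperSub (F := F))))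
    ⟨S, hS, rfl⟩ ⟨Y, hY, rfl⟩

theorem sol_conj_iff (g S Y : SL2) : Sol (g * S * g⁻¹) (g * Y * g⁻¹) ↔ Sol S Y := by
  unfold Sol
  simp only [QuotientGroup.mk_mul, QuotientGroup.mk_inv]
  exact solvPair_conj_iff _ _ _

theorem sol_lower {S Y : SL2} (hS : (S : M2) 0 1 = 0) (hY : (Y : M2) 0 1 = 0) : Sol S Y := by
  rw [← sol_conj_iff jMatS]
  have key : ∀ A : SL2, (A : M2) 0 1 = 0 → ((jMatS * A * jMatS⁻¹ : SL2) : M2) 1 0 = 0 := fun A h => by
    simp [coe_inv_two, coe_jMatS, Matrix.mul_apply, Matrix.vecMul, dotProduct, Fin.sum_univ_two, h]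
  exact sol_upper (key S hS) (key Y hY)

theorem sol_of_trace_zero {S Y : SL2} (hS : (S : M2).trace = 0)
    (h : (Y : M2).trace = 0 ∨ ((S * Y : SL2) : M2).trace = 0) : Sol S Y := by
  rcases h with h | h
  · exact solvPair_of_two (mk_sq_one hS) (mk_sq_one h)
  · refine solvPair_of_two' (mk_sq_one hS) ?_
    rw [← QuotientGroup.mk_mul]; exact mk_sq_one h

theorem sol_of_commute {S Y : SL2} (h : Y * S = S * Y ∨ Y * S = S⁻¹ * Y) : Sol S Y := by
  refine solvPair_of_conj (h.imp (fun e => ?_) (fun e => ?_)) <;>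
    rw [mul_inv_eq_iff_eq_mul, ← QuotientGroup.mk_mul, e, QuotientGroup.mk_mul]
  rw [QuotientGroup.mk_inv]

end suff

/-- Matrix form of the conjugation relations. -/
theorem conj_cases {S Y : SL2}
    (h : (QuotientGroup.mk Y : PSL) * QuotientGroup.mk S * (QuotientGroup.mk Y)⁻¹ = QuotientGroup.mk S ∨
      (QuotientGroup.mk Y : PSL) * QuotientGroup.mk S * (QuotientGroup.mk Y)⁻¹ = (QuotientGroup.mk S)⁻¹) :
    ∃ e : F, e * e = 1 ∧ (((Y * S : SL2) : M2) = e • ((S * Y : SL2) : M2) ∨
      ((Y * S : SL2) : M2) = e • ((S⁻¹ * Y : SL2) : M2)) := by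
  have key : ∀ A B : SL2, (QuotientGroup.mk A : PSL) = QuotientGroup.mk B →
      ∃ e : F, e * e = 1 ∧ (B : M2) = e • (A : M2) := by
    intro A B h
    rcases CfsgLib.SpecLin.SLTwo.mk_eq_mk_iff.1 h with h | h
    · exact ⟨1, one_mul 1, by rw [one_smul, h]⟩
    · exact ⟨-1, by ring, by rw [neg_one_smul, h]⟩
  rcases h with h | h <;> rw [mul_inv_eq_iff_eq_mul] at h
  · rw [← QuotientGroup.mk_mul, ← QuotientGroup.mk_mul] at h
    obtain ⟨e, he, h'⟩ := key _ _ h.symm
    exact ⟨e, he, Or.inl h'⟩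
  · rw [← QuotientGroup.mk_inv, ← QuotientGroup.mk_mul, ← QuotientGroup.mk_mul] at h
    obtain ⟨e, he, h'⟩ := key _ _ h.symm
    exact ⟨e, he, Or.inr h'⟩

theorem sol_cases {ℓ r : ℕ} [Fact ℓ.Prime] [CharP F ℓ] (hℓ : ℓ ≤ 3) (hr : r.Prime)
    (hq : Fintype.card F = ℓ ^ r) {S Y : SL2} (h : Sol S Y) :
    (∃ z : OnePoint F, SpecialLinearGroup.toGL S • z = z ∧ SpecialLinearGroup.toGL Y • z = z) ∨
    (∃ e : F, e * e = 1 ∧ (((Y * S : SL2) : M2) = e • ((S * Y : SL2) : M2) ∨
      ((Y * S : SL2) : M2) = e • ((S⁻¹ * Y : SL2) : M2))) ∨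
    ((QuotientGroup.mk S : PSL) ^ 2 = 1 ∧ ((QuotientGroup.mk Y : PSL) ^ 2 = 1 ∨
      (QuotientGroup.mk (S * Y) : PSL) ^ 2 = 1)) ∨
    ((QuotientGroup.mk S : PSL) ^ 4 = 1 ∨ (QuotientGroup.mk S : PSL) ^ 3 = 1) ∧
      ∀ g : SL2, (∃ n : ℕ, g = S ^ n * Y) →
        (QuotientGroup.mk g : PSL) ^ 4 = 1 ∨ (QuotientGroup.mk g : PSL) ^ 3 = 1 := by
  rcases solvPair_cases hℓ hr hq h with ⟨z, h1, h2⟩ | h' | ⟨h1, h2⟩ | ⟨h1, h2⟩
  · exact Or.inl ⟨z, (fix_mk S z).1 h1, (fix_mk Y z).1 h2⟩
  · exact Or.inr (Or.inl (conj_cases h'))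
  · refine Or.inr (Or.inr (Or.inl ⟨by rw [sq]; exact h1, h2.imp (fun e => by rw [sq]; exact e) fun e => ?_⟩))
    rw [sq, QuotientGroup.mk_mul]; exact e
  · refine Or.inr (Or.inr (Or.inr ⟨h1, ?_⟩))
    rintro g ⟨n, rfl⟩
    refine h2 _ ?_
    rw [QuotientGroup.mk_mul, QuotientGroup.mk_pow]
    exact mul_mem (pow_mem (Subgroup.subset_closure (Set.mem_insert _ _)) n) (Subgroup.subset_closure (Set.mem_insert_of_mem _ rfl))

section char2

variable [CharP F 2] {r : ℕ} (hr : r.Prime) (hq : Fintype.card F = 2 ^ r)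
include hr hq

theorem sol_involution_two (Y : SL2) :
    Sol (uMatS 1) Y ↔ (Y : M2) 1 0 = 0 ∨ (Y : M2).trace = 0 ∨ (Y : M2).trace + (Y : M2) 1 0 = 0 := by
  haveI : Fact (Nat.Prime 2) := ⟨Nat.prime_two⟩
  have h2 := CharTwo.two_eq_zero (R := F)
  have hS : ((uMatS 1 : SL2) : M2).trace = 0 := by
    simp [coe_uMatS, trace_fin_two, one_add_one_eq_two, h2]
  have hSY : ((uMatS 1 * Y : SL2) : M2).trace = (Y : M2).trace + (Y : M2) 1 0 := by
    rw [trace_mul_two, trace_fin_two]; simp [coe_uMatS]; ring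
  constructor
  · intro h
    rcases sol_cases (by norm_num) hr hq h with ⟨z, h1, h2'⟩ | ⟨e, he, h'⟩ | ⟨-, h'⟩ | ⟨-, h'⟩
    · cases z with
      | infty => exact Or.inl ((fix_infty Y).1 h2')
      | coe k =>
        exfalso
        have := fix_coe _ k h1
        simp [coe_uMatS] at this
    · have e1 : e = 1 := by
        refine sub_eq_zero.1 (mul_self_eq_zero.1 ?_)
        linear_combination he + (1 - e) * h2
      subst e1
      left
      rw [one_smul, one_smul] at h'
      rcases h' with h' | h' <;>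
      · have := congrFun (congrFun h' 0) 0
        simp [coe_inv_two, coe_uMatS, Matrix.mul_apply, Matrix.vecMul, dotProduct, Fin.sum_univ_two] at this
        exact this
    · have sq0 : ∀ A : SL2, (QuotientGroup.mk A : PSL) ^ 2 = 1 → (A : M2).trace = 0 := fun A hA => by
        rcases trace_of_sq hA with e | e
        · exact e
        · exact pow_eq_zero_iff two_ne_zero |>.1 (e.trans (by linear_combination (2 : F) * h2))
      rcases h' with h' | h'
      · exact Or.inr (Or.inl (sq0 _ h'))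
      · exact Or.inr (Or.inr (hSY ▸ sq0 _ h'))
    · have hy := trace_exc_two (h' Y ⟨0, by simp⟩)
      have hxy := trace_exc_two (h' _ ⟨1, by rw [pow_one]⟩)
      rw [hSY] at hxy
      rcases hy with hy | hy
      · exact Or.inr (Or.inl hy)
      rcases hxy with hxy | hxy
      · exact Or.inr (Or.inr hxy)
      · exact Or.inl (by linear_combination hxy - hy)
  · rintro (h | h | h)
    · exact sol_upper (by simp [coe_uMatS]) h
    · exact sol_of_trace_zero hS (Or.inl h)
    · exact sol_of_trace_zero hS (Or.inr (hSY.trans h))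

end char2

section char3

variable [CharP F 3] {r : ℕ} (hr : r.Prime) (hq : Fintype.card F = 3 ^ r) (hns : ∀ z : F, z * z ≠ -1)
include hr hq hns

theorem sol_unipotent_three (Y : SL2) :
    Sol (uMatS 1) Y ↔ (Y : M2) 1 0 = 0 ∨ (((Y : M2) 1 0 = 1 ∨ (Y : M2) 1 0 = -1) ∧
      ((Y : M2).trace = 0 ∨ (Y : M2).trace = 1 ∨ (Y : M2).trace = -1)) := by
  haveI : Fact (Nat.Prime 3) := ⟨Nat.prime_three⟩
  have h3 : (3 : F) = 0 := CharP.cast_eq_zero F 3
  have hSY : ∀ A : SL2, ((uMatS 1 * A : SL2) : M2).trace = (A : M2).trace + (A : M2) 1 0 := fun A => by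
    rw [trace_mul_two, trace_fin_two]; simp [coe_uMatS]; ring
  have hS10 : ∀ A : SL2, ((uMatS 1 * A : SL2) : M2) 1 0 = (A : M2) 1 0 := fun A => by
    simp [coe_uMatS, Matrix.mul_apply, Matrix.vecMul, dotProduct, Fin.sum_univ_two]
  constructor
  · intro h
    rcases sol_cases (by norm_num) hr hq h with ⟨z, h1, h2'⟩ | ⟨e, he, h'⟩ | ⟨h1, -⟩ | ⟨-, h'⟩
    · cases z with
      | infty => exact Or.inl ((fix_infty Y).1 h2')
      | coe k =>
        exfalso
        have := fix_coe _ k h1
        simp [coe_uMatS] at this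
    · left
      rcases h' with h' | h' <;>
      · have e10 := congrFun (congrFun h' 1) 0
        have e11 := congrFun (congrFun h' 1) 1
        simp [coe_inv_two, coe_uMatS, Matrix.mul_apply, Matrix.vecMul, dotProduct, Fin.sum_univ_two] at e10 e11
        by_contra h0
        have e1 : e = 1 := mul_right_cancel₀ h0 (by linear_combination -e10)
        rw [e1] at e11
        exact h0 (by linear_combination e11)
    · exfalso
      rcases trace_of_sq h1 with e | e
      · simp [coe_uMatS, trace_fin_two] at e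
        exact one_ne_zero (show (1 : F) = 0 by linear_combination h3 - e)
      · obtain ⟨c, -, hc⟩ := pow_scalar h1
        have := congrFun (congrFun hc 0) 1
        simp [coe_uMatS, sq, Matrix.mul_apply, Matrix.vecMul, dotProduct, Fin.sum_univ_two] at this
        exact one_ne_zero (show (1 : F) = 0 by linear_combination h3 - this)
    · have hy := trace_exc_three hns (h' Y ⟨0, by simp⟩)
      have hxy := trace_exc_three hns (h' _ ⟨1, by rw [pow_one]⟩)
      rw [hSY] at hxy
      rcases eq_or_ne ((Y : M2) 1 0) 0 with hc | hc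
      · exact Or.inl hc
      refine Or.inr ⟨?_, hy⟩
      rcases hy with hy | hy | hy <;> rcases hxy with hxy | hxy | hxy <;> rw [hy] at hxy
      · exact absurd (by linear_combination hxy) hc
      · exact Or.inl (by linear_combination hxy)
      · exact Or.inr (by linear_combination hxy)
      · exact Or.inr (by linear_combination hxy)
      · exact absurd (by linear_combination hxy) hc
      · exact Or.inl (by linear_combination hxy - h3)
      · exact Or.inl (by linear_combination hxy)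
      · exact Or.inr (by linear_combination hxy + h3)
      · exact absurd (by linear_combination hxy) hc
  · rintro (h | ⟨hc, ht⟩)
    · exact sol_upper (by simp [coe_uMatS]) h
    have hc2 : (Y : M2) 1 0 ^ 2 = 1 := by rcases hc with hc | hc <;> rw [hc] <;> ring
    -- an involution in the coset
    obtain ⟨n, hn⟩ : ∃ n : ℕ, (((uMatS 1) ^ n * Y : SL2) : M2).trace = 0 := by
      have two : ∀ A : SL2, ((uMatS 1 ^ 2 * A : SL2) : M2).trace = (A : M2).trace + 2 * (A : M2) 1 0 :=
        fun A => by rw [sq, mul_assoc, hSY, hS10, hSY]; ring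
      rcases ht with ht | ht | ht <;> rcases hc with hc | hc
      · exact ⟨0, by simpa using ht⟩
      · exact ⟨0, by simpa using ht⟩
      · exact ⟨2, by rw [two, ht, hc]; linear_combination h3⟩
      · exact ⟨1, by rw [pow_one, hSY, ht, hc]; ring⟩
      · exact ⟨1, by rw [pow_one, hSY, ht, hc]; ring⟩
      · exact ⟨2, by rw [two, ht, hc]; linear_combination -h3⟩
    set Z := (uMatS 1) ^ n * Y with hZ
    have hcZ : (Z : M2) 1 0 = (Y : M2) 1 0 := by
      rw [hZ]; clear hn hZ Z
      induction n with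
      | zero => simp
      | succ n ih => rw [pow_succ', mul_assoc, hS10, ih]
    have hS3 : ((uMatS (1 : F) : SL2) : M2).trace ^ 2 = 1 := by
      simp [coe_uMatS, trace_fin_two]; linear_combination h3
    refine SolvPair.mono (solvPair_tetrahedral (mk_sq_one hn) (mk_cube_one hS3) ?_)
      (Subgroup.subset_closure (Set.mem_insert_of_mem _ rfl)) ?_
    · have htr : ((Z * uMatS 1 : SL2) : M2).trace = ((uMatS 1 * Z : SL2) : M2).trace := by
        exact Matrix.trace_mul_comm (Z : M2) ((uMatS 1 : SL2) : M2)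
      have := mk_cube_one (A := Z * uMatS 1) (by rw [htr, hSY, hn, zero_add, hcZ, hc2])
      rwa [QuotientGroup.mk_mul] at this
    · have hY : (QuotientGroup.mk Y : PSL) = ((QuotientGroup.mk (uMatS 1) : PSL) ^ n)⁻¹ * QuotientGroup.mk Z := by
        rw [hZ, QuotientGroup.mk_mul, QuotientGroup.mk_pow, inv_mul_cancel_left]
      have h1 : (QuotientGroup.mk Z : PSL) ∈
          Subgroup.closure ({(QuotientGroup.mk Z : PSL), QuotientGroup.mk (uMatS 1)} : Set PSL) :=
        Subgroup.subset_closure (Set.mem_insert _ _)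
      have h2 : (QuotientGroup.mk (uMatS 1) : PSL) ∈
          Subgroup.closure ({(QuotientGroup.mk Z : PSL), QuotientGroup.mk (uMatS 1)} : Set PSL) :=
        Subgroup.subset_closure (Set.mem_insert_of_mem _ (Set.mem_singleton _))
      rw [hY]
      exact mul_mem (inv_mem (pow_mem h2 n)) h1

theorem sol_involution_three (Y : SL2) :
    Sol jMatS Y ↔ (Y : M2).trace = 0 ∨ (Y : M2) 0 1 - (Y : M2) 1 0 = 0 ∨
      (((Y : M2).trace = 1 ∨ (Y : M2).trace = -1) ∧
        ((Y : M2) 0 1 - (Y : M2) 1 0 = 1 ∨ (Y : M2) 0 1 - (Y : M2) 1 0 = -1)) ∨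
      ((Y : M2) 0 0 = (Y : M2) 1 1 ∧ (Y : M2) 0 1 = -(Y : M2) 1 0) := by
  haveI : Fact (Nat.Prime 3) := ⟨Nat.prime_three⟩
  have h3 : (3 : F) = 0 := CharP.cast_eq_zero F 3
  have hS : ((jMatS : SL2) : M2).trace = 0 := by simp [coe_jMatS, trace_fin_two]
  have hSY : ((jMatS * Y : SL2) : M2).trace = (Y : M2) 0 1 - (Y : M2) 1 0 := by
    rw [trace_mul_two]; simp [coe_jMatS]; ring
  constructor
  · intro h
    rcases sol_cases (by norm_num) hr hq h with ⟨z, h1, -⟩ | ⟨e, he, h'⟩ | ⟨-, h'⟩ | ⟨-, h'⟩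
    · obtain ⟨l, hl⟩ := root_of_fix h1
      rw [hS] at hl
      exact absurd (by linear_combination hl) (hns l)
    · have hjinv : ((jMatS⁻¹ * Y : SL2) : M2) = (-1 : F) • ((jMatS * Y : SL2) : M2) := by
        ext i j
        fin_cases i <;> fin_cases j <;> simp [coe_inv_two, coe_jMatS, Matrix.mul_apply, Matrix.vecMul, dotProduct, Fin.sum_univ_two]
      obtain ⟨e', he', h''⟩ : ∃ e' : F, e' * e' = 1 ∧
          ((Y * jMatS : SL2) : M2) = e' • ((jMatS * Y : SL2) : M2) := by
        rcases h' with h' | h'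
        · exact ⟨e, he, h'⟩
        · exact ⟨-e, by linear_combination he, by rw [h', hjinv, smul_smul, mul_neg_one]⟩
      have e00 := congrFun (congrFun h'' 0) 0
      have e10 := congrFun (congrFun h'' 1) 0
      simp [coe_jMatS, Matrix.mul_apply, Matrix.vecMul, dotProduct, Fin.sum_univ_two] at e00 e10
      rcases mul_self_eq_one_iff.1 he' with rfl | rfl
      · exact Or.inr (Or.inr (Or.inr ⟨by linear_combination -e10, by linear_combination e00⟩))
      · exact Or.inl (by rw [trace_fin_two]; linear_combination e10)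
    · rcases h' with h' | h'
      · rcases trace_of_sq h' with e | e
        · exact Or.inl e
        · obtain ⟨c, -, hc⟩ := pow_scalar h'
          have : (Y : M2).trace ≠ 0 := fun e0 => by
            rw [e0] at e
            exact one_ne_zero (show (1 : F) = 0 by linear_combination -e - h3)
          rw [sq, CfsgLib.SpecLin.SLTwo.sq_eq (Y : M2) Y.2, sub_eq_iff_eq_add] at hc
          have h00 := congrFun (congrFun hc 0) 0
          have h11 := congrFun (congrFun hc 1) 1
          have h01 := congrFun (congrFun hc 0) 1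
          have h10 := congrFun (congrFun hc 1) 0
          simp at h00 h11 h01 h10
          refine Or.inr (Or.inr (Or.inr ⟨mul_left_cancel₀ this (h00.trans h11.symm), ?_⟩))
          rw [h01.resolve_left this, h10.resolve_left this, neg_zero]
      · rw [QuotientGroup.mk_mul] at h'
        have h'' : (QuotientGroup.mk (jMatS * Y) : PSL) ^ 2 = 1 := by rwa [QuotientGroup.mk_mul]
        rcases trace_of_sq h'' with e | e
        · exact Or.inr (Or.inl (hSY ▸ e))
        · obtain ⟨c, -, hc⟩ := pow_scalar h''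
          have : ((jMatS * Y : SL2) : M2).trace ≠ 0 := fun e0 => by
            rw [e0] at e
            exact one_ne_zero (show (1 : F) = 0 by linear_combination -e - h3)
          rw [sq, CfsgLib.SpecLin.SLTwo.sq_eq _ (jMatS * Y).2, sub_eq_iff_eq_add] at hc
          have h00 := congrFun (congrFun hc 0) 0
          have h11 := congrFun (congrFun hc 1) 1
          have h01 := congrFun (congrFun hc 0) 1
          have h10 := congrFun (congrFun hc 1) 0
          simp [-Matrix.SpecialLinearGroup.coe_mul] at h00 h11 h01 h10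
          have k01 := h01.resolve_left this
          have k10 := h10.resolve_left this
          simp [coe_jMatS, Matrix.mul_apply, Matrix.vecMul, dotProduct, Fin.sum_univ_two] at k01 k10
          exact Or.inl (by rw [trace_fin_two, k01, k10, add_zero])
    · have hy := trace_exc_three hns (h' Y ⟨0, by simp⟩)
      have hxy := trace_exc_three hns (h' _ ⟨1, by rw [pow_one]⟩)
      rw [hSY] at hxy
      rcases hy with hy | hy
      · exact Or.inl hy
      rcases hxy with hxy | hxy
      · exact Or.inr (Or.inl hxy)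
      · exact Or.inr (Or.inr (Or.inl ⟨hy, hxy⟩))
  · rintro (h | h | ⟨ht, hu⟩ | ⟨h1, h2⟩)
    · exact sol_of_trace_zero hS (Or.inl h)
    · exact sol_of_trace_zero hS (Or.inr (hSY.trans h))
    · refine solvPair_tetrahedral (mk_sq_one hS) (mk_cube_one (by rcases ht with e | e <;> rw [e] <;> ring)) ?_
      rw [← QuotientGroup.mk_mul]
      exact mk_cube_one (by rw [hSY]; rcases hu with e | e <;> rw [e] <;> ring)
    · refine sol_of_commute (Or.inl (Subtype.ext ?_))
      ext i j
      fin_cases i <;> fin_cases j <;> simp [coe_jMatS, Matrix.mul_apply, Matrix.vecMul, dotProduct, Fin.sum_univ_two, h1, h2]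

end char3

section semisimple

variable {ℓ r : ℕ} [Fact ℓ.Prime] [CharP F ℓ] (hℓ : ℓ ≤ 3) (hr : r.Prime) (hq : Fintype.card F = ℓ ^ r)
include hℓ hr hq

theorem sol_diag {s : F} (hs : s ≠ 0) (h1 : s * s ≠ 1) (hm1 : s * s ≠ -1)
    (hexc : ∀ Y : SL2, ((QuotientGroup.mk (dMatS s hs) : PSL) ^ 4 = 1 ∨
        (QuotientGroup.mk (dMatS s hs) : PSL) ^ 3 = 1) →
      (∀ g : SL2, (∃ n : ℕ, g = dMatS s hs ^ n * Y) →
        (QuotientGroup.mk g : PSL) ^ 4 = 1 ∨ (QuotientGroup.mk g : PSL) ^ 3 = 1) →
      (Y : M2) 0 1 = 0 ∨ (Y : M2) 1 0 = 0 ∨ ((Y : M2) 0 0 = 0 ∧ (Y : M2) 1 1 = 0))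
    (Y : SL2) :
    Sol (dMatS s hs) Y ↔ (Y : M2) 0 1 = 0 ∨ (Y : M2) 1 0 = 0 ∨ ((Y : M2) 0 0 = 0 ∧ (Y : M2) 1 1 = 0) := by
  have hne : ∀ e : F, e * e = 1 → s * s ≠ e := fun e he h => by
    rcases mul_self_eq_one_iff.1 he with rfl | rfl
    exacts [h1 h, hm1 h]
  constructor
  · intro h
    rcases sol_cases hℓ hr hq h with ⟨z, hz1, hz2⟩ | ⟨e, he, h'⟩ | ⟨hsq, -⟩ | ⟨hx, hg⟩
    · cases z with
      | infty => exact Or.inr (Or.inl ((fix_infty Y).1 hz2))
      | coe k =>
        have := fix_coe _ k hz1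
        simp [coe_dMatS] at this
        rcases this with this | this
        · exfalso
          exact h1 (by
            have := sub_eq_zero.1 this
            field_simp at this
            linear_combination -this)
        · subst this
          have := fix_coe _ _ hz2
          exact Or.inl (by simpa using this)
    · rcases h' with h' | h'
      · left
        have := congrFun (congrFun h' 0) 1
        simp [coe_dMatS, Matrix.mul_apply, Matrix.vecMul, dotProduct, Fin.sum_univ_two] at this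
        by_contra h0
        refine hne e he ?_
        have h' : s⁻¹ = e * s := mul_right_cancel₀ h0 (by linear_combination this)
        field_simp at h'
        linear_combination (-e) * h' + (- s * s) * he
      · refine Or.inr (Or.inr ⟨?_, ?_⟩)
        · have := congrFun (congrFun h' 0) 0
          simp [coe_inv_two, coe_dMatS, Matrix.mul_apply, Matrix.vecMul, dotProduct, Fin.sum_univ_two] at this
          by_contra h0
          refine hne e he ?_
          have h' : s = e * s⁻¹ := mul_right_cancel₀ h0 (by linear_combination this)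
          field_simp at h'
          linear_combination h'
        · have := congrFun (congrFun h' 1) 1
          simp [coe_inv_two, coe_dMatS, Matrix.mul_apply, Matrix.vecMul, dotProduct, Fin.sum_univ_two] at this
          by_contra h0
          refine hne e he ?_
          have h' : s⁻¹ = e * s := mul_right_cancel₀ h0 (by linear_combination this)
          field_simp at h'
          linear_combination (-e) * h' + (- s * s) * he
    · exfalso
      obtain ⟨c, hc2, hc⟩ := pow_scalar hsq
      have := congrFun (congrFun hc 0) 0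
      simp [coe_dMatS, sq, Matrix.mul_apply, Matrix.vecMul, dotProduct, Fin.sum_univ_two] at this
      exact hne c hc2 this
    · exact hexc Y hx hg
  · rintro (h | h | ⟨ha, hd⟩)
    · exact sol_lower (by simp [coe_dMatS]) h
    · exact sol_upper (by simp [coe_dMatS]) h
    · refine sol_of_commute (Or.inr (Subtype.ext ?_))
      ext i j
      fin_cases i <;> fin_cases j <;> simp [coe_inv_two, coe_dMatS, Matrix.mul_apply, Matrix.vecMul, dotProduct, Fin.sum_univ_two, ha, hd, mul_comm]

theorem sol_nonsplit {S : SL2} (hroot : ∀ l : F, l * l - (S : M2).trace * l + 1 ≠ 0) (ht : (S : M2).trace ≠ 0)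
    (hexc : ∀ Y : SL2, ((QuotientGroup.mk S : PSL) ^ 4 = 1 ∨ (QuotientGroup.mk S : PSL) ^ 3 = 1) →
      (∀ g : SL2, (∃ n : ℕ, g = S ^ n * Y) →
        (QuotientGroup.mk g : PSL) ^ 4 = 1 ∨ (QuotientGroup.mk g : PSL) ^ 3 = 1) →
      Y * S = S * Y ∨ Y * S = S⁻¹ * Y)
    (Y : SL2) : Sol S Y ↔ Y * S = S * Y ∨ Y * S = S⁻¹ * Y := by
  refine ⟨fun h => ?_, sol_of_commute⟩
  rcases sol_cases hℓ hr hq h with ⟨z, hz1, -⟩ | ⟨e, he, h'⟩ | ⟨hsq, -⟩ | ⟨hx, hg⟩
  · obtain ⟨l, hl⟩ := root_of_fix hz1
    exact absurd hl (hroot l)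
  · have hconj : ∀ T : SL2, ((Y * S : SL2) : M2) = e • ((T * Y : SL2) : M2) → (T : M2).trace = (S : M2).trace →
        Y * S = T * Y := by
      intro T hT htr
      have hT' : ((Y * S * Y⁻¹ : SL2) : M2) = e • (T : M2) := by
        have hc : ((T * Y * Y⁻¹ : SL2) : M2) = (T : M2) := by rw [mul_inv_cancel_right]
        rw [Matrix.SpecialLinearGroup.coe_mul, hT, Matrix.smul_mul, ← Matrix.SpecialLinearGroup.coe_mul, hc]
      have htr' := congrArg Matrix.trace hT'
      rw [CfsgLib.SL2Tori.trace_conj, trace_smul, htr, smul_eq_mul] at htr'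
      have e1 : e = 1 := mul_right_cancel₀ ht (by rw [one_mul]; exact htr'.symm)
      rw [e1, one_smul] at hT
      exact Subtype.ext hT
    rcases h' with h' | h'
    · exact Or.inl (hconj S h' rfl)
    · refine Or.inr (hconj S⁻¹ h' ?_)
      rw [coe_inv_two]; simp [trace_fin_two, add_comm]
  · rcases trace_of_sq hsq with e | e
    · exact absurd e ht
    · exfalso
      obtain ⟨c, hc2, hc⟩ := pow_scalar hsq
      rw [sq, CfsgLib.SpecLin.SLTwo.sq_eq (S : M2) S.2, sub_eq_iff_eq_add] at hc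
      have h00 := congrFun (congrFun hc 0) 0
      have h11 := congrFun (congrFun hc 1) 1
      have h10 := congrFun (congrFun hc 1) 0
      simp at h00 h11 h10
      have k10 := h10.resolve_left ht
      have hd := det_two S
      rw [k10, mul_zero, sub_zero] at hd
      refine hroot ((S : M2) 0 0) ?_
      rw [trace_fin_two]
      linear_combination -hd
  · exact hexc Y hx hg

end semisimple

end CfsgLib.PSLTwoSolv
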