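import Cfsg.Agent.Lib.PSLTwoSolv.Count

/-!
Solvabilizer sizes in `PSL₂(2^p)` and `PSL₂(3^p)`.
-/

set_option autoImplicit false

open Matrix

namespace CfsgLib.PSLTwoSolv

variable {F : Type*} [Field F] [Fintype F] [DecidableEq F]

local notation "SL2" => Matrix.SpecialLinearGroup (Fin 2) F
local notation "M2" => Matrix (Fin 2) (Fin 2) F
local notation "PSL" => Matrix.ProjectiveSpecialLinearGroup (Fin 2) F

section forms

omit [DecidableEq F]

theorem not_scalar {S : SL2} (h : (QuotientGroup.mk S : PSL) ≠ 1) (s : F) : (S : M2) ≠ s • 1 :=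
  fun e => h ((QuotientGroup.eq_one_iff S).2 (CfsgLib.SpecLin.SLTwo.mem_center_of_scalar e))

theorem exists_upper {S : SL2} {l : F} (hl : l * l - (S : M2).trace * l + 1 = 0) :
    ∃ g : SL2, ((g * S * g⁻¹ : SL2) : M2) 1 0 = 0 := by
  rcases eq_or_ne ((S : M2) 1 0) 0 with hc | hc
  · exact ⟨1, by simpa using hc⟩
  set z := (l - (S : M2) 1 1) / (S : M2) 1 0 with hzdef
  have hz : (S : M2) 1 0 * z = l - (S : M2) 1 1 := mul_div_cancel₀ _ hc
  let g : SL2 := ⟨!![0, 1; -1, z], by simp [det_fin_two]⟩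
  have hg : (g : M2) = !![0, 1; -1, z] := rfl
  refine ⟨g, ?_⟩
  simp [coe_inv_two, hg, Matrix.mul_apply, Matrix.vecMul, dotProduct, Fin.sum_univ_two]
  refine mul_left_cancel₀ hc ?_
  rw [trace_fin_two] at hl
  linear_combination ((S : M2) 1 0 * z + l - (S : M2) 0 0) * hz + hl + det_two S

theorem exists_diag {S : SL2} (h0 : (S : M2) 1 0 = 0) (hne : (S : M2) 0 0 ≠ (S : M2) 1 1) :
    ∃ (g : SL2) (s : F) (hs : s ≠ 0), g * S * g⁻¹ = dMatS s hs := by
  have hd := det_two S
  rw [h0, mul_zero, sub_zero] at hd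
  have ha : (S : M2) 0 0 ≠ 0 := left_ne_zero_of_mul_eq_one hd
  set u := (S : M2) 0 1 / ((S : M2) 0 0 - (S : M2) 1 1) with hu
  have hu' : u * ((S : M2) 0 0 - (S : M2) 1 1) = (S : M2) 0 1 := div_mul_cancel₀ _ (sub_ne_zero.2 hne)
  refine ⟨uMatS u, (S : M2) 0 0, ha, Subtype.ext ?_⟩
  ext i j
  fin_cases i <;> fin_cases j <;>
    simp [coe_inv_two, coe_uMatS, coe_dMatS, Matrix.mul_apply, Matrix.vecMul, dotProduct, Fin.sum_univ_two, h0]
  · linear_combination -hu'
  · exact eq_inv_of_mul_eq_one_right hd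

theorem upper_sum {S : SL2} (h0 : (S : M2) 1 0 = 0) :
    (S : M2) 0 0 * (S : M2) 0 0 - (S : M2).trace * (S : M2) 0 0 + 1 = 0 := by
  have hd := det_two S
  rw [h0, mul_zero, sub_zero] at hd
  rw [trace_fin_two]
  linear_combination -hd

theorem solvCount_mk_conj (g S : SL2) :
    solvCount (QuotientGroup.mk (g * S * g⁻¹) : PSL) = solvCount (QuotientGroup.mk S : PSL) := by
  rw [QuotientGroup.mk_mul, QuotientGroup.mk_mul, QuotientGroup.mk_inv, solvCount_conj]

variable {ℓ r : ℕ} [Fact ℓ.Prime] [CharP F ℓ] (hr : 0 < r) (hq : Fintype.card F = ℓ ^ r)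
include hr hq

theorem pow_card_eq_one_of_trace {S : SL2} (h4 : (S : M2).trace ^ 2 = 4) :
    (QuotientGroup.mk S : PSL) ^ Fintype.card F = 1 := by
  rw [hq, ← Nat.succ_pred_eq_of_pos hr, pow_succ', pow_mul, ← QuotientGroup.mk_pow,
    (QuotientGroup.eq_one_iff _).2 (CfsgLib.SpecLin.SLTwo.pow_char_mem_center ℓ h4), one_pow]

theorem root_split {S : SL2} (h1 : (QuotientGroup.mk S : PSL) ≠ 1) (h2 : (QuotientGroup.mk S : PSL) ^ 2 ≠ 1)
    (h : (QuotientGroup.mk S : PSL) ^ (Fintype.card F - 1) = 1) :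
    (S : M2).trace ^ 2 ≠ 4 ∧ ∃ l : F, l * l - (S : M2).trace * l + 1 = 0 := by
  have hpos : 1 ≤ Fintype.card F := Fintype.card_pos
  refine ⟨fun h4 => h1 ?_, ?_⟩
  · have := pow_card_eq_one_of_trace hr hq h4
    rwa [show Fintype.card F = Fintype.card F - 1 + 1 by omega, pow_succ, h, one_mul] at this
  · by_contra hn
    push Not at hn
    refine h2 ?_
    have := congrArg (QuotientGroup.mk (s := Subgroup.center SL2))
      (CfsgLib.SpecLin.SLTwo.pow_card_add_one_of_no_root hn)
    rwa [QuotientGroup.mk_pow, QuotientGroup.mk_one,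
      show Fintype.card F + 1 = Fintype.card F - 1 + 2 by omega, pow_add, h, one_mul] at this

theorem root_nonsplit {S : SL2} (h1 : (QuotientGroup.mk S : PSL) ≠ 1) (h2 : (QuotientGroup.mk S : PSL) ^ 2 ≠ 1)
    (h : (QuotientGroup.mk S : PSL) ^ (Fintype.card F + 1) = 1) :
    (S : M2).trace ≠ 0 ∧ ∀ l : F, l * l - (S : M2).trace * l + 1 ≠ 0 := by
  have hpos : 1 ≤ Fintype.card F := Fintype.card_pos
  refine ⟨fun h0 => h2 (CfsgLib.SpecLin.SLTwo.sq_eq_one_of_trace_eq_zero h0), fun l hl => ?_⟩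
  by_cases h4 : (S : M2).trace ^ 2 = 4
  · refine h1 ?_
    rwa [pow_succ, pow_card_eq_one_of_trace hr hq h4, one_mul] at h
  · refine h2 ?_
    have := congrArg (QuotientGroup.mk (s := Subgroup.center SL2))
      (CfsgLib.SpecLin.SLTwo.pow_card_sub_one_of_root h4 hl)
    rw [QuotientGroup.mk_pow, QuotientGroup.mk_one] at this
    rwa [show Fintype.card F + 1 = Fintype.card F - 1 + 2 by omega, pow_add, this, one_mul] at h

end forms

section split

variable {ℓ r : ℕ} [Fact ℓ.Prime] [CharP F ℓ]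

theorem solvCount_split (hℓ : ℓ ≤ 3) (hr : r.Prime) (hq : Fintype.card F = ℓ ^ r)
    (hexc : ∀ (s : F) (hs : s ≠ 0), s * s ≠ 1 → s * s ≠ -1 → ∀ Y : SL2,
      ((QuotientGroup.mk (dMatS s hs) : PSL) ^ 4 = 1 ∨ (QuotientGroup.mk (dMatS s hs) : PSL) ^ 3 = 1) →
      (∀ g : SL2, (∃ n : ℕ, g = dMatS s hs ^ n * Y) →
        (QuotientGroup.mk g : PSL) ^ 4 = 1 ∨ (QuotientGroup.mk g : PSL) ^ 3 = 1) →
      (Y : M2) 0 1 = 0 ∨ (Y : M2) 1 0 = 0 ∨ ((Y : M2) 0 0 = 0 ∧ (Y : M2) 1 1 = 0))
    {x : PSL} (h1 : x ≠ 1) (h2 : x ^ 2 ≠ 1) (h : x ^ (Fintype.card F - 1) = 1) :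
    Nat.card ↥(Subgroup.center SL2) * solvCount x = 2 * Fintype.card F * (Fintype.card F - 1) := by
  obtain ⟨S, rfl⟩ := QuotientGroup.mk_surjective x
  obtain ⟨h4, l, hl⟩ := root_split hr.pos hq h1 h2 h
  obtain ⟨g, hg⟩ := exists_upper hl
  have hne : ((g * S * g⁻¹ : SL2) : M2) 0 0 ≠ ((g * S * g⁻¹ : SL2) : M2) 1 1 := by
    intro e
    refine h4 ?_
    have hd := det_two (g * S * g⁻¹)
    rw [hg, mul_zero, sub_zero, ← e] at hd
    have ht := CfsgLib.SL2Tori.trace_conj g S
    rw [trace_fin_two, ← e] at ht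
    rw [← ht]
    linear_combination (4 : F) * hd
  obtain ⟨g', s, hs, hD⟩ := exists_diag hg hne
  have hcount : solvCount (QuotientGroup.mk S : PSL) = solvCount (QuotientGroup.mk (dMatS s hs) : PSL) := by
    rw [← hD, solvCount_mk_conj, solvCount_mk_conj]
  have hsq : s * s ≠ 1 ∧ s * s ≠ -1 := by
    have ht : (dMatS s hs : SL2).1.trace = (S : M2).trace := by
      rw [← hD, CfsgLib.SL2Tori.trace_conj, CfsgLib.SL2Tori.trace_conj]
    rw [coe_dMatS, trace_fin_two_of] at ht
    refine ⟨fun e => h4 ?_, fun e => h2 ?_⟩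
    · rw [← ht, inv_eq_of_mul_eq_one_right e]
      linear_combination (4 : F) * e
    · refine CfsgLib.SpecLin.SLTwo.sq_eq_one_of_trace_eq_zero ?_
      rw [← ht]
      field_simp
      linear_combination e
  rw [hcount, card_center_mul_solvCount, ← count_diag (F := F)]
  congr 1
  exact Set.ext fun Y => sol_diag hℓ hr hq hs hsq.1 hsq.2 (hexc s hs hsq.1 hsq.2) Y

theorem solvCount_nonsplit (hℓ : ℓ ≤ 3) (hr : r.Prime) (hq : Fintype.card F = ℓ ^ r)
    (hexc : ∀ S : SL2, (∀ l : F, l * l - (S : M2).trace * l + 1 ≠ 0) → (S : M2).trace ≠ 0 → ∀ Y : SL2,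
      ((QuotientGroup.mk S : PSL) ^ 4 = 1 ∨ (QuotientGroup.mk S : PSL) ^ 3 = 1) →
      (∀ g : SL2, (∃ n : ℕ, g = S ^ n * Y) →
        (QuotientGroup.mk g : PSL) ^ 4 = 1 ∨ (QuotientGroup.mk g : PSL) ^ 3 = 1) →
      Y * S = S * Y ∨ Y * S = S⁻¹ * Y)
    {x : PSL} (h1 : x ≠ 1) (h2 : x ^ 2 ≠ 1) (h : x ^ (Fintype.card F + 1) = 1) :
    Nat.card ↥(Subgroup.center SL2) * solvCount x = 2 * (Fintype.card F + 1) := by
  obtain ⟨S, rfl⟩ := QuotientGroup.mk_surjective x
  obtain ⟨ht, hl⟩ := root_nonsplit hr.pos hq h1 h2 h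
  rw [card_center_mul_solvCount, ← count_nonsplit hl ht]
  congr 1
  exact Set.ext fun Y => sol_nonsplit hℓ hr hq hl ht (hexc S hl ht) Y

end split

section char2

variable [CharP F 2] {p : ℕ} (hp : p.Prime) (hq : Fintype.card F = 2 ^ p)
include hp hq

omit [DecidableEq F] in
theorem sq_ne_one_of_pow {x : PSL} (h1 : x ≠ 1) {n : ℕ} (hn : n % 2 = 1) (h : x ^ n = 1) : x ^ 2 ≠ 1 := by
  intro h2
  refine h1 ?_
  rw [← Nat.div_add_mod n 2, hn, pow_add, pow_mul, h2, one_pow, one_mul, pow_one] at h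
  exact h

theorem count_two (x : PSL) :
    (orderOf x = 2 → solvCount x = 3 * 2 ^ p * (2 ^ p - 1)) ∧
    (x ≠ 1 → orderOf x ∣ 2 ^ p - 1 → solvCount x = 2 * 2 ^ p * (2 ^ p - 1)) ∧
    (x ≠ 1 → orderOf x ∣ 2 ^ p + 1 → solvCount x = 2 * (2 ^ p + 1)) := by
  haveI : Fact (Nat.Prime 2) := ⟨Nat.prime_two⟩
  have h2 := CharTwo.two_eq_zero (R := F)
  have hZ := card_center_two (F := F)
  have heven : 2 ^ p % 2 = 0 := Nat.dvd_iff_mod_eq_zero.1 (dvd_pow_self 2 hp.ne_zero)
  have hpos : 1 ≤ 2 ^ p := Nat.one_le_two_pow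
  refine ⟨fun h => ?_, fun h1 h => ?_, fun h1 h => ?_⟩
  · have hx1 : x ≠ 1 := fun e => by rw [e, orderOf_one] at h; omega
    have hx2 : x ^ 2 = 1 := by have := pow_orderOf_eq_one x; rwa [h] at this
    obtain ⟨S, rfl⟩ := QuotientGroup.mk_surjective x
    have ht : (S : M2).trace = 0 := by
      rcases trace_of_sq hx2 with e | e
      · exact e
      · exact pow_eq_zero_iff two_ne_zero |>.1 (e.trans (by linear_combination (2 : F) * h2))
    have hU : ((uMatS 1 : SL2) : M2).trace = 0 := by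
      simp [coe_uMatS, trace_fin_two, one_add_one_eq_two, h2]
    obtain ⟨g, hg⟩ := isConj_iff.1 (CfsgLib.SpecLin.SLTwo.isConj_of_trace_eq (Or.inl h2) (not_scalar hx1)
      (fun s e => by simpa [coe_uMatS] using congrFun (congrFun e 0) 1) (ht.trans hU.symm))
    have hc := card_center_mul_solvCount (uMatS 1 : SL2)
    rw [hZ, one_mul, ← hg, solvCount_mk_conj] at hc
    rw [hc, ← hq, ← count_involution_two (F := F), hg]
    congr 1
    exact Set.ext fun Y => sol_involution_two hp hq Y
  · have hpow : x ^ (Fintype.card F - 1) = 1 := orderOf_dvd_iff_pow_eq_one.1 (hq ▸ h)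
    have := solvCount_split (ℓ := 2) (by norm_num) hp hq ?_ h1 (sq_ne_one_of_pow hp hq h1 (by omega) hpow) hpow
    · rwa [hZ, one_mul, hq] at this
    intro s hs hs1 _ Y hx hg
    have htr : ∀ n : ℕ, ((dMatS s hs ^ n * Y : SL2) : M2).trace = s ^ n * (Y : M2) 0 0 + (s⁻¹) ^ n * (Y : M2) 1 1 := by
      intro n
      have hpw : ((dMatS s hs ^ n : SL2) : M2) = !![s ^ n, 0; 0, (s⁻¹) ^ n] := by
        induction n with
        | zero => ext i j; fin_cases i <;> fin_cases j <;> simp
        | succ n ih =>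
          rw [pow_succ, Matrix.SpecialLinearGroup.coe_mul, ih, coe_dMatS]
          ext i j; fin_cases i <;> fin_cases j <;> simp [pow_succ]
      rw [trace_mul_two, hpw]; simp
    have hs3 : s + s⁻¹ = 1 := by
      rcases trace_exc_two hx with e | e <;> simp [coe_dMatS, trace_fin_two] at e
      · exact absurd (by field_simp at e; linear_combination e - h2) hs1
      · exact e
    have hs' : s * s = s + 1 := by
      field_simp at hs3
      linear_combination hs3 - h2
    have hinv : s⁻¹ = s + 1 := inv_eq_of_mul_eq_one_right (by linear_combination hs' + s * h2)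
    have k0 := trace_exc_two (hg _ ⟨0, rfl⟩)
    have k1 := trace_exc_two (hg _ ⟨1, rfl⟩)
    have k2 := trace_exc_two (hg _ ⟨2, rfl⟩)
    rw [htr, pow_zero, pow_zero, one_mul, one_mul] at k0
    rw [htr, pow_one, pow_one, hinv] at k1
    rw [htr, hinv] at k2
    have hd := det_two Y
    set a := (Y : M2) 0 0
    set d := (Y : M2) 1 1
    have fin : a * d = 1 → (Y : M2) 0 1 = 0 ∨ (Y : M2) 1 0 = 0 ∨ (a = 0 ∧ d = 0) := fun e => by
      rcases mul_eq_zero.1 (show (Y : M2) 0 1 * (Y : M2) 1 0 = 0 by linear_combination e - hd) with e | e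
      exacts [Or.inl e, Or.inr (Or.inl e)]
    rcases k0 with k0 | k0
    · -- `d = a`
      have hda : d = a := by linear_combination k0 - a * h2
      rcases k1 with k1 | k1 <;> rw [hda] at k1
      · refine Or.inr (Or.inr ⟨?_, ?_⟩)
        · linear_combination k1 - (a * s) * h2
        · rw [hda]; linear_combination k1 - (a * s) * h2
      · have ha : a = 1 := by linear_combination k1 - (a * s) * h2
        exact fin (by rw [hda, ha]; ring)
    · have hda : d = a + 1 := by linear_combination k0 - a * h2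
      rw [hda] at k1 k2
      rcases k1 with k1 | k1
      · have ha : a = s + 1 := by linear_combination k1 - (a * s) * h2 - (s + 1) * h2
        exact fin (by rw [hda, ha]; linear_combination hs' + (2 * s + 1) * h2)
      · have ha : a = s := by linear_combination k1 - (a * s + s) * h2
        exact fin (by rw [hda, ha]; linear_combination hs' + s * h2)
  · have hpow : x ^ (Fintype.card F + 1) = 1 := orderOf_dvd_iff_pow_eq_one.1 (hq ▸ h)
    have := solvCount_nonsplit (ℓ := 2) (by norm_num) hp hq ?_ h1 (sq_ne_one_of_pow hp hq h1 (by omega) hpow) hpow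
    · rwa [hZ, one_mul, hq] at this
    intro S hroot ht0 Y hx hg
    have ht : (S : M2).trace = 1 := (trace_exc_two hx).resolve_left ht0
    have hS2 : (S : M2) * (S : M2) = (S : M2) + 1 := by
      rw [CfsgLib.SpecLin.SLTwo.sq_eq _ S.2, ht, one_smul, sub_eq_add_neg]
      congr 1
      ext i j; rw [Matrix.neg_apply, CharTwo.neg_eq]
    have hS3 : S * (S * S) = 1 := Subtype.ext (by
      show (S : M2) * ((S : M2) * (S : M2)) = 1
      rw [hS2, mul_add, hS2, mul_one, add_comm ((S : M2) + 1), ← add_assoc]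
      have : (S : M2) + S = 0 := by ext i j; simp [CharTwo.add_self_eq_zero]
      rw [this, zero_add])
    have hS : ∀ A : SL2, ((S * (S * A) : SL2) : M2).trace = ((S * A : SL2) : M2).trace + (A : M2).trace := by
      intro A
      simp only [Matrix.SpecialLinearGroup.coe_mul]
      rw [← mul_assoc, hS2, add_mul, one_mul, trace_add]
    have no_exc : ∀ Z : SL2, (Z : M2).trace = 0 → ((S * Z : SL2) : M2).trace = 1 → Z = 1 := by
      intro Z hz hsz
      have hdS := det_two S
      have hdZ := det_two Z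
      rw [trace_fin_two] at hz ht
      rw [trace_mul_two] at hsz
      set s11 := (S : M2) 0 0
      set s12 := (S : M2) 0 1
      set s21 := (S : M2) 1 0
      set s22 := (S : M2) 1 1
      set a := (Z : M2) 0 0 with ha'
      set b := (Z : M2) 0 1 with hb'
      set c := (Z : M2) 1 0 with hc'
      set d := (Z : M2) 1 1 with hd'
      have hda : d = a := by linear_combination hz - a * h2
      have hs22 : s22 = 1 + s11 := by linear_combination ht - s11 * h2
      rw [hda, hs22] at hsz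
      rw [hda] at hdZ
      rw [hs22] at hdS
      have htr : (S : M2).trace = 1 := by rw [trace_fin_two]; exact ht
      set n := a + 1 with hn
      have hA : n + s12 * c + s21 * b = 0 := by
        rw [hn]; linear_combination hsz - (s11 * a - 1) * h2
      have hnn : n * n = b * c := by rw [hn]; linear_combination hdZ + (a + 1) * h2
      rcases eq_or_ne b 0 with hb | hb
      · have hn0 : n = 0 := mul_self_eq_zero.1 (by rw [hnn, hb, zero_mul])
        rw [hn0, hb, mul_zero, zero_add, add_zero] at hA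
        rcases mul_eq_zero.1 hA with h12 | hc
        · refine absurd ?_ (hroot s11)
          rw [htr]
          linear_combination hdS + s21 * h12 + (1 - s11) * h2
        · have ha1 : a = 1 := by linear_combination hn0 - h2
          refine Subtype.ext ?_
          ext i j
          fin_cases i <;> fin_cases j <;> simp [← ha', ← hb', ← hc', ← hd', hda, ha1, hb, hc]
      · obtain ⟨μ, hμ⟩ : ∃ μ, n = μ * b := ⟨n / b, (div_mul_cancel₀ _ hb).symm⟩
        have hc2 : c = μ * μ * b := mul_left_cancel₀ hb (by rw [← hnn, hμ]; ring)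
        have h5 : μ + s12 * μ * μ + s21 = 0 := mul_right_cancel₀ hb (by
          rw [hμ, hc2] at hA; rw [zero_mul]; linear_combination hA)
        refine absurd ?_ (hroot (s11 + s12 * μ))
        rw [htr]
        linear_combination hdS + s12 * h5 + (s11 * s12 * μ - s11 - s12 * μ + 1) * h2
    have comm : ∀ Z : SL2, Z = 1 → ∀ n : ℕ, Z = S ^ n * Y → Y * S = S * Y := fun Z hZ1 n hZn => by
      have : Y = (S ^ n)⁻¹ := eq_inv_of_mul_eq_one_right (hZn.symm.trans hZ1)
      rw [this]
      exact ((Commute.self_pow S n).inv_right).eq.symm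
    have k0 := trace_exc_two (hg _ ⟨0, rfl⟩)
    have k1 := trace_exc_two (hg _ ⟨1, rfl⟩)
    rw [pow_zero, one_mul] at k0
    rw [pow_one] at k1
    rcases k0 with k0 | k0 <;> rcases k1 with k1 | k1
    · -- both involutions
      right
      have hYY : Y * Y = 1 := Subtype.ext (by
        show (Y : M2) * (Y : M2) = 1
        rw [CfsgLib.SpecLin.SLTwo.sq_eq _ Y.2, k0, zero_smul, zero_sub]
        ext i j; rw [Matrix.neg_apply, CharTwo.neg_eq])
      have hSY : S * Y * (S * Y) = 1 := Subtype.ext (by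
        show ((S * Y : SL2) : M2) * ((S * Y : SL2) : M2) = 1
        rw [CfsgLib.SpecLin.SLTwo.sq_eq _ (S * Y).2, k1, zero_smul, zero_sub]
        ext i j; rw [Matrix.neg_apply, CharTwo.neg_eq])
      calc Y * S = S⁻¹ * (S * Y * (S * Y)) * Y⁻¹ := by group
        _ = S⁻¹ * Y⁻¹ := by rw [hSY, mul_one]
        _ = S⁻¹ * Y := by rw [inv_eq_of_mul_eq_one_right hYY]
    · exact Or.inl (comm _ (no_exc Y k0 k1) 0 (by rw [pow_zero, one_mul]))
    · refine Or.inl (comm _ (no_exc (S * Y) k1 ?_) 1 (by rw [pow_one]))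
      rw [hS, k1, k0, zero_add]
    · refine Or.inl (comm _ (no_exc (S * (S * Y)) ?_ ?_) 2 (by rw [pow_two, mul_assoc]))
      · rw [hS, k1, k0, one_add_one_eq_two, h2]
      · rw [show S * (S * (S * Y)) = S * (S * S) * Y by group, hS3, one_mul, k0]

end char2

section char3

variable [CharP F 3] {p : ℕ} (hp : p.Prime) (hodd : Odd p) (hq : Fintype.card F = 3 ^ p)
include hp hodd hq

omit [DecidableEq F] in
theorem neg_one_nonsquare : ∀ z : F, z * z ≠ -1 := by
  intro z hz
  have h := FiniteField.isSquare_neg_one_iff.1 (⟨z, hz.symm⟩ : IsSquare (-1 : F))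
  refine h ?_
  rw [hq]
  obtain ⟨k, rfl⟩ := hodd
  rw [pow_succ, pow_mul, Nat.mul_mod, Nat.pow_mod]
  norm_num

theorem count_three (x : PSL) :
    (orderOf x = 2 → solvCount x = 3 ^ p * (3 ^ p + 1)) ∧
    (orderOf x = 3 → 2 * solvCount x = 3 ^ p * (3 ^ p + 5)) ∧
    (x ≠ 1 → orderOf x ≠ 2 → orderOf x ∣ 3 ^ p - 1 → solvCount x = 3 ^ p * (3 ^ p - 1)) ∧
    (x ≠ 1 → orderOf x ≠ 2 → orderOf x ∣ 3 ^ p + 1 → solvCount x = 3 ^ p + 1) := by
  haveI : Fact (Nat.Prime 3) := ⟨Nat.prime_three⟩
  have hns := neg_one_nonsquare hp hodd hq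
  have h3 : (3 : F) = 0 := CharP.cast_eq_zero F 3
  have h2 : (2 : F) ≠ 0 := fun e => one_ne_zero (show (1 : F) = 0 by linear_combination h3 - e)
  have hZ := card_center_odd h2
  have sq_ne : x ≠ 1 → orderOf x ≠ 2 → x ^ 2 ≠ 1 := fun h1 h2' e => by
    rcases (Nat.dvd_prime Nat.prime_two).1 (orderOf_dvd_of_pow_eq_one e) with e | e
    exacts [h1 (orderOf_eq_one_iff.1 e), h2' e]
  refine ⟨fun h => ?_, fun h => ?_, fun h1 h2' h => ?_, fun h1 h2' h => ?_⟩
  · have hx1 : x ≠ 1 := fun e => by rw [e, orderOf_one] at h; omega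
    have hx2 : x ^ 2 = 1 := by have := pow_orderOf_eq_one x; rwa [h] at this
    obtain ⟨S, rfl⟩ := QuotientGroup.mk_surjective x
    have ht : (S : M2).trace = 0 := by
      rcases trace_of_sq hx2 with e | e
      · exact e
      · exfalso
        refine hx1 ?_
        have := congrArg (QuotientGroup.mk (s := Subgroup.center SL2)) (Eq.refl (S ^ 3))
        have h3' : (QuotientGroup.mk S : PSL) ^ 3 = 1 := by
          rw [← QuotientGroup.mk_pow, QuotientGroup.eq_one_iff]
          exact CfsgLib.SpecLin.SLTwo.pow_char_mem_center 3 e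
        rwa [pow_succ, hx2, one_mul] at h3'
    have hJ : ((jMatS : SL2) : M2).trace = 0 := by simp [coe_jMatS, trace_fin_two]
    obtain ⟨g, hg⟩ := isConj_iff.1 (CfsgLib.SpecLin.SLTwo.isConj_of_trace_eq (Or.inr (by
        rw [ht]; exact fun e => one_ne_zero (show (1 : F) = 0 by linear_combination -e - h3)))
      (not_scalar hx1) (fun s e => by simpa [coe_jMatS] using congrFun (congrFun e 1) 0) (ht.trans hJ.symm))
    have hc := card_center_mul_solvCount (jMatS : SL2)
    rw [hZ, ← hg, solvCount_mk_conj, hg, show {Y : SL2 | Sol jMatS Y} = _ from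
      Set.ext fun Y => sol_involution_three hp hq hns Y] at hc
    erw [count_involution_three hns] at hc
    rw [hq, mul_assoc] at hc
    exact Nat.eq_of_mul_eq_mul_left two_pos hc
  · have hx1 : x ≠ 1 := fun e => by rw [e, orderOf_one] at h; omega
    have hx3 : x ^ 3 = 1 := by have := pow_orderOf_eq_one x; rwa [h] at this
    obtain ⟨S, rfl⟩ := QuotientGroup.mk_surjective x
    -- choose the lift of trace `-1`
    obtain ⟨S', hS', ht⟩ : ∃ S' : SL2, (QuotientGroup.mk S' : PSL) = QuotientGroup.mk S ∧ (S' : M2).trace = -1 := by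
      rcases trace_exc_three hns (Or.inr hx3) with e | e | e
      · exfalso
        refine hx1 ?_
        rw [pow_succ, CfsgLib.SpecLin.SLTwo.sq_eq_one_of_trace_eq_zero e, one_mul] at hx3
        exact hx3
      · let N : SL2 := ⟨-(S : M2), by rw [det_neg, S.2]; simp⟩
        refine ⟨N, CfsgLib.SpecLin.SLTwo.mk_eq_mk_iff.2 (Or.inr (neg_neg _).symm), ?_⟩
        show (-(S : M2)).trace = -1
        rw [trace_neg, e]
      · exact ⟨S, rfl, e⟩
    obtain ⟨g, hg⟩ := exists_upper (S := S') (l := 1) (by rw [ht]; linear_combination h3)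
    set U := g * S' * g⁻¹ with hU
    have hd := det_two U
    rw [hg, mul_zero, sub_zero] at hd
    have htU : (U : M2) 0 0 + (U : M2) 1 1 = -1 := by
      rw [← trace_fin_two, hU, CfsgLib.SL2Tori.trace_conj, ht]
    have ha : (U : M2) 0 0 = 1 := sub_eq_zero.1 (mul_self_eq_zero.1 (by
      linear_combination (U : M2) 0 0 * htU - hd - (U : M2) 0 0 * h3))
    have hdd : (U : M2) 1 1 = 1 := by rwa [ha, one_mul] at hd
    set k := (U : M2) 0 1 with hk
    have hUk : U = uMatS k := Subtype.ext (by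
      ext i j; fin_cases i <;> fin_cases j <;> simp [coe_uMatS, ha, hdd, hg, hk])
    have hk0 : k ≠ 0 := fun e => hx1 (by
      have h1 : U = 1 := by
        rw [hUk, e]; refine Subtype.ext ?_
        ext i j; fin_cases i <;> fin_cases j <;> simp [coe_uMatS]
      have : S' = 1 := by rw [hU, conj_eq_one_iff] at h1; exact h1
      rw [← hS', this, QuotientGroup.mk_one])
    obtain ⟨r, hr⟩ : ∃ r : F, r * r = k ∨ r * r = -k := by
      by_contra hn
      push Not at hn
      have q1 := quadraticChar_neg_one_iff_not_isSquare.2 (fun ⟨r, hr⟩ => (hn r).1 hr.symm : ¬ IsSquare k)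
      have q2 := quadraticChar_neg_one_iff_not_isSquare.2 (fun ⟨r, hr⟩ => (hn r).2 hr.symm : ¬ IsSquare (-k))
      have q3 := quadraticChar_neg_one_iff_not_isSquare.2 (fun ⟨r, hr⟩ => hns r hr.symm : ¬ IsSquare (-1 : F))
      rw [← neg_one_mul k, map_mul, q1, q3] at q2
      norm_num at q2
    have hr0 : r ≠ 0 := fun e => hk0 (by
      rcases hr with hr | hr
      · rw [← hr, e, mul_zero]
      · rw [← neg_eq_zero, ← hr, e, mul_zero])
    have hscale : dMatS r⁻¹ (inv_ne_zero hr0) * uMatS k * (dMatS r⁻¹ (inv_ne_zero hr0))⁻¹ = uMatS (k / (r * r)) := by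
      refine Subtype.ext ?_
      ext i j
      fin_cases i <;> fin_cases j <;>
        simp [coe_inv_two, coe_uMatS, coe_dMatS, Matrix.mul_apply, Matrix.vecMul, dotProduct, Fin.sum_univ_two, hr0]
      field_simp
    have hred : solvCount (QuotientGroup.mk S : PSL) = solvCount (QuotientGroup.mk (uMatS 1) : PSL) := by
      rw [← hS', ← solvCount_mk_conj g S', ← hU, hUk, ← solvCount_mk_conj (dMatS r⁻¹ (inv_ne_zero hr0)), hscale]
      rcases hr with hr | hr
      · rw [hr, div_self hk0]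
      · rw [hr, div_neg, div_self hk0, ← solvCount_inv]
        congr 1
        rw [← QuotientGroup.mk_inv]
        congr 1
        refine Subtype.ext ?_
        ext i j; fin_cases i <;> fin_cases j <;> simp [coe_inv_two, coe_uMatS]
    have hc := card_center_mul_solvCount (uMatS 1 : SL2)
    rw [hZ, show {Y : SL2 | Sol (uMatS 1) Y} = _ from Set.ext fun Y => sol_unipotent_three hp hq hns Y] at hc
    erw [count_unipotent_three] at hc
    rw [hred, hc, hq]
  · have hpow : x ^ (Fintype.card F - 1) = 1 := orderOf_dvd_iff_pow_eq_one.1 (hq ▸ h)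
    have := solvCount_split (ℓ := 3) le_rfl hp hq ?_ h1 (sq_ne h1 h2') hpow
    · rw [hZ, hq, mul_assoc] at this
      exact Nat.eq_of_mul_eq_mul_left two_pos this
    intro s hs hs1 hsm _ hx _
    exfalso
    rcases trace_exc_three hns hx with e | e | e <;> simp [coe_dMatS, trace_fin_two] at e <;> field_simp at e
    · exact hsm (by linear_combination e)
    · have : s = -1 := add_eq_zero_iff_eq_neg.1 (mul_self_eq_zero.1 (show (s + 1) * (s + 1) = 0 by
        linear_combination e + s * h3))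
      exact hs1 (by rw [this]; ring)
    · have : s = 1 := sub_eq_zero.1 (mul_self_eq_zero.1 (show (s - 1) * (s - 1) = 0 by
        linear_combination e - s * h3))
      exact hs1 (by rw [this]; ring)
  · have hpow : x ^ (Fintype.card F + 1) = 1 := orderOf_dvd_iff_pow_eq_one.1 (hq ▸ h)
    have := solvCount_nonsplit (ℓ := 3) le_rfl hp hq ?_ h1 (sq_ne h1 h2') hpow
    · rw [hZ, hq] at this
      exact Nat.eq_of_mul_eq_mul_left two_pos this
    intro S hroot ht0 _ hx _
    exfalso
    rcases trace_exc_three hns hx with e | e | e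
    · exact ht0 e
    · exact hroot (-1) (by rw [e]; linear_combination h3)
    · exact hroot 1 (by rw [e]; linear_combination h3)

end char3

end CfsgLib.PSLTwoSolv
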